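import Cfsg.Agent.Fusion.Alperin
import Cfsg.Agent.Fusion.NormalSubgroup
import Cfsg.Agent.Fusion.Systems
import Cfsg.Agent.Fusion.Saturation

/-!
# Well-placed subgroups

For an isomorphism-invariant functor `W` the chain `Q, W(N_S(Q)), W(N_S(W(N_S Q))), …` can be moved
into a position where all terms are fully normalised. Hence `W(S)` is normal as soon as `W(N_S Q)`
is invariant in the normaliser system of every fully normalised `Q`.
-/

set_option autoImplicit false

universe u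

namespace CfsgLib.FusionQd

open Cfsg Cfsg.FusionSystem CfsgLib.Fusion

/-- The value of `W` at a subgroup, inside the ambient group. -/
def wOf (W : ∀ (Q : Type u) [Group Q], Subgroup Q) {Ω : Type u} [Group Ω] (P : Subgroup Ω) :
    Subgroup Ω :=
  (W ↥P).map P.subtype

/-- `W` commutes with isomorphisms of finite `p`-groups. -/
def IsoInvariant (p : ℕ) (W : ∀ (Q : Type u) [Group Q], Subgroup Q) : Prop :=
  ∀ (Q R : Type u) [Group Q] [Group R] [Finite Q], IsPGroup p Q → ∀ φ : Q ≃* R,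
    (W Q).map φ.toMonoidHom = W R

variable {Ω : Type u} [Group Ω] {S : Subgroup Ω} {F : FusionSystem S} {p : ℕ}
variable {W : ∀ (Q : Type u) [Group Q], Subgroup Q}

theorem wOf_le (P : Subgroup Ω) : wOf W P ≤ P := Subgroup.map_subtype_le _

theorem wOf_ne_bot {P : Subgroup Ω} (hne : ∀ (Q : Type u) [Group Q] [Finite Q], IsPGroup p Q →
    Nontrivial Q → W Q ≠ ⊥) [Finite P] (hP : IsPGroup p P) (h : P ≠ ⊥) : wOf W P ≠ ⊥ := fun he =>
  hne ↥P hP ((Subgroup.nontrivial_iff_ne_bot P).2 h)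
    ((Subgroup.map_eq_bot_iff_of_injective _ P.subtype_injective).1 he)

theorem wOf_congr (hW : IsoInvariant p W) {P Q : Subgroup Ω} [Finite P] (hP : IsPGroup p P)
    (e : P ≃* Q) : (W ↥P).map (Q.subtype.comp e.toMonoidHom) = wOf W Q := by
  rw [← Subgroup.map_map, hW ↥P ↥Q hP e]
  rfl

theorem wOf_imgHom (hW : IsoInvariant p W) [Finite S] (hS : IsPGroup p S) {P A : Subgroup Ω}
    {φ : P →* Ω} (hφ : φ ∈ F.Hom P) (hA : A ≤ P) :
    wOf W (imgHom φ A) = imgHom φ (wOf W A) := by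
  obtain ⟨e, he, hev⟩ := exists_iso_restrict hφ hA
  have := finite_of_le (hA.trans (le_left hφ))
  rw [← wOf_congr hW (hS.to_le (hA.trans (le_left hφ))) e]
  ext y
  constructor
  · rintro ⟨x, hx, rfl⟩
    exact ⟨⟨x, hA x.2⟩, ⟨x, hx, rfl⟩, (hev x).symm⟩
  · rintro ⟨x, ⟨z, hz, hzx⟩, rfl⟩
    refine ⟨z, hz, ?_⟩
    show (e z : Ω) = φ x
    rw [hev]
    exact congrArg φ (Subtype.ext hzx)

theorem normalizer_le_normalizer_wOf (hW : IsoInvariant p W) {P : Subgroup Ω} [Finite P]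
    (hP : IsPGroup p P) :
    Subgroup.normalizer (P : Set Ω) ≤ Subgroup.normalizer (wOf W P : Set Ω) := by
  intro g hg
  rw [Subgroup.mem_normalizer_iff_map_conj_eq]
  refine Eq.trans ?_ (wOf_congr hW hP (P.normalizerMonoidHom ⟨g, hg⟩))
  rw [wOf, Subgroup.map_map]
  rfl

theorem card_lt_normalizerIn [Finite S] [Fact p.Prime] (hS : IsPGroup p S) {T : Subgroup Ω}
    (hTS : T ≤ S) (hne : T ≠ S) : Nat.card T < Nat.card (normalizerIn S T) := by
  have hlt' : T.subgroupOf S < ⊤ :=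
    lt_top_iff_ne_top.2 fun h => hne (le_antisymm hTS (Subgroup.subgroupOf_eq_top.1 h))
  have : Group.IsNilpotent S := hS.isNilpotent
  have h2 := Group.normalizerCondition_of_isNilpotent (T.subgroupOf S) hlt'
  rw [← Subgroup.subgroupOf_normalizer_eq hTS] at h2
  have h3 : (normalizerIn S T).subgroupOf S = (Subgroup.normalizer (T : Set Ω)).subgroupOf S :=
    Subgroup.ext fun x => ⟨fun h => h.2, fun h => ⟨x.2, h⟩⟩
  have := finite_of_le (normalizerIn_le S T)
  refine Set.Finite.card_lt_card (Set.toFinite _) (lt_of_le_of_ne (le_normalizerIn hTS) ?_)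
  intro he
  have h4 : T.subgroupOf S = (normalizerIn S T).subgroupOf S :=
    congrArg (fun A : Subgroup Ω => A.subgroupOf S) (SetLike.coe_injective he)
  exact h2.ne (h4.trans h3)

variable (F W) in
/-- The maps normalising `Q` normalise `W(S)`. -/
def Good (Q : Subgroup Ω) : Prop :=
  ∀ P : Subgroup Ω, F.normalizerHom Q P ⊆ F.normalizerHom (wOf W S) P

theorem exists_good [Finite S] [Fact p.Prime] (hS : IsPGroup p S) (hF : F.IsSaturated p)
    (hW : IsoInvariant p W)
    (hne : ∀ (Q : Type u) [Group Q] [Finite Q], IsPGroup p Q → Nontrivial Q → W Q ≠ ⊥)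
    (hstep : ∀ Q : Subgroup Ω, F.IsFullyNormalized Q → Q ≠ ⊥ → ∀ P : Subgroup Ω,
      F.normalizerHom Q P ⊆ F.normalizerHom (wOf W (normalizerIn S Q)) P) :
    ∀ Q : Subgroup Ω, Q ≤ S → Q ≠ ⊥ →
      ∃ χ ∈ F.Hom (normalizerIn S Q),
        F.IsFullyNormalized (imgHom χ Q) ∧ Good F W (imgHom χ Q) := by
  intro Q
  induction hn : Nat.card S - Nat.card (normalizerIn S Q) using Nat.strong_induction_on
    generalizing Q with
  | _ n ih =>
    subst hn
    intro hQS hQ
    obtain ⟨Q₀, hQQ₀, hQ₀⟩ := exists_fullyNormalized (F := F) hQS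
    obtain ⟨ha, hr⟩ := automized_receptive hS hF hQ₀
    obtain ⟨χ₀, hχ₀, hχ₀N, hχ₀Q⟩ := exists_map_normalizerIn hS ha hr hQQ₀
    have hQ₀ne : Q₀ ≠ ⊥ := by
      intro h
      have h1 := card_eq_of_isConj hQQ₀
      rw [h, Subgroup.card_bot] at h1
      exact hQ (Subgroup.eq_bot_of_card_eq _ h1)
    set T := normalizerIn S Q₀ with hT
    have hTS : T ≤ S := normalizerIn_le S Q₀
    by_cases hcase : T = S
    · refine ⟨χ₀, hχ₀, hχ₀Q.symm ▸ hQ₀, hχ₀Q.symm ▸ fun P φ hφ => ?_⟩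
      have := hstep Q₀ hQ₀ hQ₀ne P hφ
      rw [← hT, hcase] at this
      exact this
    have hfT := finite_of_le hTS
    have hTne : T ≠ ⊥ := fun h => hQ₀ne (le_bot_iff.1 (h ▸ le_normalizerIn hQ₀.1))
    set Q₁ := wOf W T with hQ₁
    have hQ₁S : Q₁ ≤ S := (wOf_le T).trans hTS
    have hTQ₁ : normalizerIn S T ≤ normalizerIn S Q₁ :=
      inf_le_inf_left _ (normalizer_le_normalizer_wOf hW (hS.to_le hTS))
    have hlt : Nat.card T < Nat.card (normalizerIn S Q₁) := by
      have := finite_of_le (normalizerIn_le S Q₁)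
      exact (card_lt_normalizerIn hS hTS hcase).trans_le
        (Nat.card_le_card_of_injective _ (Subgroup.inclusion_injective hTQ₁))
    have hmeas : Nat.card S - Nat.card (normalizerIn S Q₁) <
        Nat.card S - Nat.card (normalizerIn S Q) := by
      have h1 : Nat.card (normalizerIn S Q) ≤ Nat.card T := hQ₀.2 Q (isConj_symm hQQ₀)
      have h2 : Nat.card (normalizerIn S Q₁) ≤ Nat.card S :=
        Nat.card_le_card_of_injective _ (Subgroup.inclusion_injective (normalizerIn_le S Q₁))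
      omega
    obtain ⟨χ₁, hχ₁, hfn₁, hgood₁⟩ :=
      ih _ hmeas Q₁ rfl hQ₁S (wOf_ne_bot hne (hS.to_le hTS) hTne)
    have hTN : T ≤ normalizerIn S Q₁ := (le_normalizerIn hTS).trans hTQ₁
    have hQ₀T : Q₀ ≤ T := le_normalizerIn hQ₀.1
    set Q' := imgHom χ₁ Q₀ with hQ'
    have hconj : F.IsConj Q₀ Q' := isConj_restrict hχ₁ (hQ₀T.trans hTN)
    have hQ'S : Q' ≤ S := by rintro _ ⟨x, -, rfl⟩; exact apply_mem hχ₁ x
    -- the normaliser of the image
    have hTimg : imgHom χ₁ T = normalizerIn S Q' := by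
      have := finite_of_le (normalizerIn_le S Q')
      refine Subgroup.eq_of_le_of_card_ge ?_ ?_
      · rintro _ ⟨x, hx, rfl⟩
        exact Subgroup.mem_inf.2 ⟨apply_mem hχ₁ x,
          map_mem_normalizer (hQ₀T.trans hTN) (Subgroup.mem_inf.1 hx).2⟩
      · rw [card_imgHom (F.injective_of_mem hχ₁) hTN]
        exact hQ₀.2 Q' hconj
    have hQ'fn : F.IsFullyNormalized Q' := by
      refine ⟨hQ'S, fun R hR => ?_⟩
      rw [← hTimg, card_imgHom (F.injective_of_mem hχ₁) hTN]
      exact hQ₀.2 R (isConj_trans hconj hR)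
    have hQ'ne : Q' ≠ ⊥ := by
      intro h
      have h1 := card_eq_of_isConj hconj
      rw [h, Subgroup.card_bot] at h1
      exact hQ₀ne (Subgroup.eq_bot_of_card_eq _ h1)
    have hχN : ∀ x, χ₀ x ∈ normalizerIn S Q₁ := fun x => hTN (hχ₀N x)
    let χ : ↥(normalizerIn S Q) →* Ω := χ₁.comp (χ₀.codRestrict _ hχN)
    have hχQ : imgHom χ Q = Q' := by
      ext y
      constructor
      · rintro ⟨x, hx, rfl⟩
        exact ⟨_, hχ₀Q.le (apply_mem_imgHom χ₀ hx), rfl⟩
      · rintro ⟨x, hx, rfl⟩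
        obtain ⟨z, hz, hzx⟩ := mem_imgHom.1 (hχ₀Q.ge (show (x : Ω) ∈ Q₀ from hx))
        exact ⟨z, hz, congrArg χ₁ (Subtype.ext hzx)⟩
    refine ⟨χ, mem_of_comp hχ₀ hχ₁ hχN fun _ => rfl, hχQ.symm ▸ hQ'fn, hχQ.symm ▸ fun P φ hφ => ?_⟩
    refine hgood₁ P ?_
    rw [← wOf_imgHom hW hS hχ₁ hTN, hTimg]
    exact hstep Q' hQ'fn hQ'ne P hφ

/-- `W(S)` is normal when `W(N_S Q)` is invariant in every `N_F(Q)`. -/
theorem isNormal_wOf [Finite S] [Fact p.Prime] (hS : IsPGroup p S) (hF : F.IsSaturated p)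
    (hW : IsoInvariant p W)
    (hne : ∀ (Q : Type u) [Group Q] [Finite Q], IsPGroup p Q → Nontrivial Q → W Q ≠ ⊥)
    (hstep : ∀ Q : Subgroup Ω, F.IsFullyNormalized Q → Q ≠ ⊥ → ∀ P : Subgroup Ω,
      F.normalizerHom Q P ⊆ F.normalizerHom (wOf W (normalizerIn S Q)) P) :
    F.IsNormal (wOf W S) := by
  set V := wOf W S with hV
  have hVS : V ≤ S := wOf_le S
  have hN : S = kNormalizer S V ⊤ := by
    rw [kNormalizer_top, normalizerIn, eq_comm, inf_eq_left]
    exact Subgroup.le_normalizer.trans (normalizer_le_normalizer_wOf hW hS)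
  have hNS : normalizerIn S V = S := by rw [← kNormalizer_top]; exact hN.symm
  have hiff : ∀ (P : Subgroup Ω) (φ : P →* Ω),
      φ ∈ (kSystem F hVS ⊤ hN).Hom P ↔ φ ∈ F.normalizerHom V P := fun P φ => by
    rw [← kHom_top, hNS]
    rfl
  have hle : F ≤ kSystem F hVS ⊤ hN := by
    refine le_of_essential_step hS hF fun P hP hP' IH α hα => ?_
    have hI := (mem_autGroup_iff hP.1).1 hα
    refine (mem_autGroup_iff hP.1).2 ?_
    show P.subtype.comp α.toMonoidHom ∈ (kSystem F hVS ⊤ hN).Hom P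
    rw [hiff]
    by_cases hPS : P = S
    · subst hPS
      have := hW ↥P ↥P hS α
      refine ⟨hI, hNS.ge, fun x => hNS.ge (α x).2,
        restrictHom _ (sup_le le_rfl hVS), restrict_mem hI _, fun x => rfl, ?_⟩
      ext y
      constructor
      · rintro ⟨x, hx, rfl⟩
        obtain ⟨w, hw, hwx⟩ := hx
        refine ⟨α w, this.le ⟨w, hw, rfl⟩, ?_⟩
        show (α w : Ω) = α _
        exact congrArg (fun z => ((α z : P) : Ω)) (Subtype.ext hwx)
      · rintro ⟨w, hw, rfl⟩
        obtain ⟨z, hz, rfl⟩ := this.ge hw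
        exact ⟨⟨z, Subgroup.mem_sup_left z.2⟩, ⟨z, hz, rfl⟩, rfl⟩
    have hne' : P ≠ ⊥ := by
      intro h
      have hc : F.IsCentric P := hP'.elim (fun e => absurd e hPS) fun h => h.1
      refine hPS (le_antisymm hP.1 fun x hx => centralizerIn_le_of_centric hc
        (mem_centralizerIn.2 ⟨hx, fun y hy => ?_⟩))
      rw [h, Subgroup.mem_bot] at hy
      simp [hy]
    obtain ⟨χ, hχ, hfn, hgood⟩ := exists_good hS hF hW hne hstep P hP.1 hne'
    have hlt := card_lt_normalizerIn hS hP.1 hPS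
    have hχK := IH _ hlt hχ
    obtain ⟨e, he, hev⟩ := exists_iso_restrict hχK (le_normalizerIn hP.1)
    have heF : IsIso F e := ((hiff _ _).1 he).1
    have hα' := congr_mem_autGroup heF hα
    have hI' := (mem_autGroup_iff heF.le_right).1 hα'
    have hself : ∀ x, ((imgHom χ P).subtype.comp (MulAut.congr e α).toMonoidHom) x ∈ imgHom χ P :=
      fun x => ((MulAut.congr e α) x).2
    have hN' : (imgHom χ P).subtype.comp (MulAut.congr e α).toMonoidHom ∈
        F.normalizerHom (imgHom χ P) (imgHom χ P) := by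
      refine ⟨hI', le_normalizerIn heF.le_right, fun x => le_normalizerIn heF.le_right (hself x),
        restrictHom _ (sup_le le_rfl le_rfl), restrict_mem hI' _, fun x => rfl, ?_⟩
      ext y
      constructor
      · rintro ⟨x, -, rfl⟩
        exact ((MulAut.congr e α) _).2
      · intro hy
        obtain ⟨x, hx⟩ := (MulAut.congr e α).surjective ⟨y, hy⟩
        exact ⟨⟨x, Subgroup.mem_sup_left x.2⟩, x.2, congrArg Subtype.val hx⟩
    have hK' : MulAut.congr e α ∈ (kSystem F hVS ⊤ hN).autGroup (imgHom χ P) :=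
      (mem_autGroup_iff heF.le_right).2 ((hiff _ _).2 (hgood _ hN'))
    rw [congr_mem_autGroup_iff he, mem_autGroup_iff hP.1] at hK'
    exact (hiff _ _).1 hK'
  refine ⟨hVS, fun P φ hφ => ?_⟩
  obtain ⟨-, -, -, ψ, hψ, h1, h2⟩ := (hiff P φ).1 (hle P hφ)
  exact ⟨ψ, hψ, h1, h2⟩

end CfsgLib.FusionQd
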