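import Cfsg.Agent.WeakClosed.SectionFree
import Cfsg.Agent.FusionFactor.ImageSaturated
import Cfsg.Agent.FusionSub.SimpleRealized
import Cfsg.Agent.Transfer.HallComplement

/-!
# Section freeness passes to factor systems

For a subgroup `R'` centric in a factor system the model there is a quotient of the model at the
preimage: divide by the image of the kernel, then by the `p'`-core.
-/

set_option autoImplicit false

universe u

namespace CfsgLib.FusionQd

open Cfsg Cfsg.FusionSystem CfsgLib.Fusion CfsgLib.WeakClosed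
open CfsgLib.FusionFactor (mem_preimageAlong preimageAlong_le)

section quotient

variable {Ω : Type*} [Group Ω] {T R : Subgroup Ω} {F : FusionSystem T} {p : ℕ}
variable {M : Type*} [Group M] [Finite M] {ι : T →* M}

/-- A group realizing `F` on a Sylow subgroup, with a normal `p`-subgroup self-centralising in
`T`, gives a model after dividing by the `p'`-core. -/
theorem isModel_mod_pPrimeCore [Fact p.Prime] (hr : F.IsRealizedBy ι) (U : Sylow p M)
    (hU : (U : Subgroup M) = ι.range) (hR : R ≤ T) [hn : (im ι R).Normal]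
    (hc : centralizerIn T R ≤ R) [(pPrimeCore p M).Normal] :
    F.IsModel p (M ⧸ pPrimeCore p M) ((QuotientGroup.mk' (pPrimeCore p M)).comp ι) := by
  have hcop : (Nat.card (pPrimeCore p M)).Coprime p := CfsgLib.PLocal.coprime_card_pPrimeCore p M
  have hUN : (U : Subgroup M) ⊓ pPrimeCore p M = ⊥ :=
    CfsgLib.PLocal.disjoint_of_isPGroup_of_coprime U.isPGroup' hcop
  obtain ⟨hq, hY⟩ := CfsgLib.FusionSub.exists_quotient_realization hr U hU _ hUN
  refine ⟨inferInstance, hq, hY, ?_⟩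
  set f := QuotientGroup.mk' (pPrimeCore p M) with hf
  have hRp : IsPGroup p (im ι R) :=
    U.isPGroup'.to_le (hU ▸ im_le_range ι R)
  haveI hn' : ((im ι R).map f).Normal := hn.map f (QuotientGroup.mk'_surjective _)
  have hle : (im ι R).map f ≤ pCore p (M ⧸ pPrimeCore p M) :=
    CfsgLib.PLocal.le_pCore (hRp.map f)
  refine (Subgroup.centralizer_le hle).trans (le_trans ?_ hle)
  -- the centraliser of `R` is `p'`-by-(a subgroup of `R`)
  set C := Subgroup.centralizer (im ι R : Set M) with hC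
  haveI hCn : C.Normal := Subgroup.normal_centralizer
  have hUC : (U : Subgroup M) ⊓ C ≤ im ι R := by
    rw [hU, ← im_centralizerIn hr.1 hR]
    exact im_mono ι hc
  obtain ⟨N₀, hN₀n, hN₀⟩ : ∃ N₀ : Subgroup C, N₀.Normal ∧
      N₀.IsComplement' ((U : Subgroup M).subgroupOf C) := by
    refine CfsgLib.Transfer.exists_normal_complement_of_normalizer_le_centralizer _ ?_ ?_
    · obtain ⟨k, hk⟩ := (U.isPGroup'.comap_subtype (K := C)).exists_card_eq
      rw [Subgroup.subgroupOf, hk]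
      refine Nat.Coprime.pow_left k (((Fact.out : p.Prime).coprime_iff_not_dvd).2 ?_)
      exact CfsgLib.Transfer.not_dvd_relIndex_of_normal U C
    · intro x _
      rw [Subgroup.mem_centralizer_iff]
      intro y hy
      refine Subtype.ext ?_
      exact Subgroup.mem_centralizer_iff.1 x.2 y (hUC ⟨hy, y.2⟩)
  haveI := hN₀n
  have hcopN : (Nat.card N₀).Coprime p := by
    have h1 := CfsgLib.Transfer.not_dvd_relIndex_of_normal U C
    rw [Subgroup.relIndex, hN₀.index_eq_card] at h1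
    exact ((Fact.out : p.Prime).coprime_iff_not_dvd.2 h1).symm
  have hN₀le : N₀.map C.subtype ≤ pPrimeCore p M :=
    (Subgroup.map_mono (CfsgLib.PLocal.le_pPrimeCore hcopN)).trans
      (CfsgLib.PLocal.pPrimeCore_map_subtype_le C)
  intro y hy
  obtain ⟨x, rfl⟩ := QuotientGroup.mk'_surjective (pPrimeCore p M) y
  have hxC : x ∈ C := by
    rw [hC, Subgroup.mem_centralizer_iff]
    intro r hr'
    have h1 := Subgroup.mem_centralizer_iff.1 hy (f r) ⟨r, hr', rfl⟩
    have h2 : r⁻¹ * (x⁻¹ * r * x) ∈ pPrimeCore p M := by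
      rw [← QuotientGroup.eq_one_iff]
      show f (r⁻¹ * (x⁻¹ * r * x)) = 1
      simp only [map_mul, map_inv]
      rw [inv_mul_eq_one, mul_assoc]
      exact eq_inv_mul_iff_mul_eq.2 h1.symm
    have h3 : r⁻¹ * (x⁻¹ * r * x) ∈ im ι R :=
      mul_mem (inv_mem hr') (by simpa using hn.conj_mem r hr' x⁻¹)
    have h4 : r⁻¹ * (x⁻¹ * r * x) = 1 := by
      rw [← Subgroup.mem_bot, ← hUN]
      exact ⟨(hU ▸ im_le_range ι R : im ι R ≤ (U : Subgroup M)) h3, h2⟩
    rw [inv_mul_eq_one, mul_assoc, eq_inv_mul_iff_mul_eq] at h4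
    exact h4.symm
  obtain ⟨⟨⟨n, hn₀⟩, ⟨u, hu⟩⟩, hnu⟩ := hN₀.2 ⟨x, hxC⟩
  have hx : (n : M) * (u : M) = x := congrArg Subtype.val hnu
  refine ⟨u, hUC ⟨hu, u.2⟩, ?_⟩
  show f u = f x
  rw [← hx, map_mul, show f n = 1 from (QuotientGroup.eq_one_iff _).2 (hN₀le ⟨n, hn₀, rfl⟩),
    one_mul]

end quotient

variable {Ω : Type u} [Group Ω] {S Q : Subgroup Ω} {F : FusionSystem S} {p : ℕ}
variable {Ω' : Type*} [Group Ω'] {S' : Subgroup Ω'} {θ : ↥S →* Ω'} {E : FusionSystem S'}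

theorem mem_normalizer_preimage_iff (hrange : θ.range = S') {R' : Subgroup Ω'} (hR' : R' ≤ S')
    (s : S) : (s : Ω) ∈ Subgroup.normalizer (preimageAlong θ R' : Set Ω) ↔
      θ s ∈ Subgroup.normalizer (R' : Set Ω') := by
  constructor
  · intro hs
    refine Subgroup.mem_normalizer_iff.2 fun y => ⟨fun hy => ?_, fun hy => ?_⟩
    · obtain ⟨x, hx⟩ : y ∈ θ.range := hrange.symm ▸ hR' hy
      have h1 := (Subgroup.mem_normalizer_iff.1 hs x).1
        (mem_preimageAlong.2 ⟨x.2, by rw [Subtype.coe_eta, hx]; exact hy⟩)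
      obtain ⟨_, h2⟩ := mem_preimageAlong.1 h1
      rw [← hx, ← map_inv, ← map_mul, ← map_mul]
      exact h2
    · obtain ⟨x, hx⟩ : θ s * y * (θ s)⁻¹ ∈ θ.range := hrange.symm ▸ hR' hy
      have h0 : θ (s⁻¹ * x * s) = y := by simp [hx, mul_assoc]
      have h1 : ((x : S) : Ω) ∈ preimageAlong θ R' :=
        mem_preimageAlong.2 ⟨x.2, by rw [Subtype.coe_eta, hx]; exact hy⟩
      obtain ⟨_, h2⟩ := mem_preimageAlong.1 ((Subgroup.mem_normalizer_iff''.1 hs x).1 h1)
      rw [← h0]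
      exact h2
  · intro hs
    refine Subgroup.mem_normalizer_iff.2 fun x => ⟨fun hx => ?_, fun hx => ?_⟩
    · obtain ⟨hxS, hxR⟩ := mem_preimageAlong.1 hx
      refine mem_preimageAlong.2 ⟨mul_mem (mul_mem s.2 hxS) (inv_mem s.2), ?_⟩
      have := (Subgroup.mem_normalizer_iff.1 hs (θ ⟨x, hxS⟩)).1 hxR
      rw [← map_inv, ← map_mul, ← map_mul] at this
      exact this
    · obtain ⟨hxS, hxR⟩ := mem_preimageAlong.1 hx
      have hxS' : x ∈ S := by
        have := mul_mem (mul_mem (inv_mem s.2) hxS) s.2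
        simpa [mul_assoc] using this
      refine mem_preimageAlong.2 ⟨hxS', (Subgroup.mem_normalizer_iff.1 hs _).2 ?_⟩
      rw [← map_inv, ← map_mul, ← map_mul]
      exact hxR

/-- The image of the preimage under a map of `F` inducing `φ'` is the preimage of the image. -/
theorem range_eq_of_induced [Finite S] (hQ : F.StronglyClosed Q) (hE : F.IsFactorSystem Q θ E)
    {R' : Subgroup Ω'} (hR' : R' ≤ S') {φ : ↥(preimageAlong θ R') →* Ω}
    (hφ : φ ∈ F.Hom (preimageAlong θ R')) {φ' : R' →* Ω'} (hind : InducedAlong θ φ φ') :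
    φ.range = preimageAlong θ φ'.range := by
  obtain ⟨hP, hφS, hPP', hv⟩ := hind
  refine le_antisymm ?_ fun y hy => ?_
  · rintro _ ⟨x, rfl⟩
    exact mem_preimageAlong.2 ⟨hφS x, ⟨_, hv x⟩⟩
  · obtain ⟨hyS, r, hr⟩ := mem_preimageAlong.1 hy
    obtain ⟨x, hx⟩ := CfsgLib.FusionFactor.exists_preimage hE.2.2.1 hR' r
    have hr2 : θ ⟨φ x, hφS x⟩ = θ ⟨y, hyS⟩ := by
      rw [← hv x, ← hr]
      exact congrArg φ' (Subtype.ext hx)
    have hq : (φ x)⁻¹ * y ∈ Q := (hE.2.1 (⟨φ x, hφS x⟩⁻¹ * ⟨y, hyS⟩)).1 (by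
      rw [map_mul, map_inv, hr2, inv_mul_cancel])
    have hQP : Q ≤ preimageAlong θ R' := fun q hq' => mem_preimageAlong.2
      ⟨hE.1 hq', by rw [(hE.2.1 ⟨q, hE.1 hq'⟩).2 hq']; exact one_mem _⟩
    obtain ⟨z, -, hz⟩ := CfsgLib.FusionFactor.exists_eq_of_stronglyClosed F hQ hφ hQP hq
    exact ⟨x * z, by rw [map_mul, hz, mul_inv_cancel_left]⟩

theorem isSectionFree_factor [Finite S] [Fact p.Prime] (hS : IsPGroup p S) (hF : F.IsSaturated p)
    (hQ : F.IsNormal Q) (hE : F.IsFactorSystem Q θ E) {H : Type*} [Group H]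
    (h : F.IsSectionFree p H) : E.IsSectionFree p H := by
  intro R' hRn hRc N' hN' L _ ι' hL hinv
  have hQsc := stronglyClosed_of_normal hQ
  have hQS := hE.1
  have hker := hE.2.1
  have hrange := hE.2.2.1
  have hHom := hE.2.2.2
  have hR' : R' ≤ S' := hRn.1
  haveI : Finite S' := by
    rw [← hrange]
    exact Finite.of_surjective θ.rangeRestrict θ.rangeRestrict_surjective
  set R := preimageAlong θ R' with hRdef
  have hRS : R ≤ S := preimageAlong_le θ R'
  have hQR : Q ≤ R := fun q hq => mem_preimageAlong.2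
    ⟨hQS hq, by rw [(hker ⟨q, hQS hq⟩).2 hq]; exact one_mem _⟩
  obtain ⟨⟨hmem, hmor⟩, -, -⟩ :=
    CfsgLib.FusionFactor.isSurjectiveMorphism_of_isFactorSystem hS hF hQsc hE
  -- conjugates of `R` are preimages of conjugates of `R'`
  have hconj : ∀ R₁, F.IsConj R R₁ → ∃ R₁', E.IsConj R' R₁' ∧ R₁' ≤ S' ∧
      R₁ = preimageAlong θ R₁' := by
    rintro R₁ ⟨φ, hφ, rfl⟩
    obtain ⟨φ', hind⟩ := CfsgLib.FusionFactor.exists_induced (P' := R') hRS (apply_mem hφ)
      (fun x => (mem_preimageAlong.1 x.2).2)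
      (CfsgLib.FusionFactor.exists_preimage hrange hR')
      (fun x hx => (hker _).2
        (CfsgLib.FusionFactor.apply_mem_of_stronglyClosed hQsc hφ ((hker _).1 hx)))
    have hφ' : φ' ∈ E.Hom R' := (hHom R' φ').2 ⟨hR', φ, hφ, hind⟩
    exact ⟨φ'.range, ⟨φ', hφ', rfl⟩, by rintro _ ⟨y, rfl⟩; exact apply_mem hφ' y,
      range_eq_of_induced hQsc hE hR' hφ hind⟩
  have hRcen : F.IsCentric R := by
    refine ⟨hRS, fun R₁ hR₁ c hc => ?_⟩
    obtain ⟨R₁', hR₁', hR₁S, rfl⟩ := hconj R₁ hR₁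
    obtain ⟨hcS, hcc⟩ := mem_centralizerIn.1 hc
    refine mem_preimageAlong.2 ⟨hcS, hRc.2 R₁' hR₁' (mem_centralizerIn.2 ⟨hmem _, fun y hy => ?_⟩)⟩
    obtain ⟨x, hx⟩ := CfsgLib.FusionFactor.exists_preimage hrange hR₁S ⟨y, hy⟩
    rw [show y = θ ⟨x, _⟩ from hx.symm, ← map_mul, ← map_mul]
    exact congrArg θ (Subtype.ext (hcc x x.2))
  -- the normalizer maps onto the normalizer
  have hθN : ∀ R₁', R₁' ≤ S' → ∀ x : ↥(normalizerIn S (preimageAlong θ R₁')),
      θ ⟨x, normalizerIn_le S _ x.2⟩ ∈ normalizerIn S' R₁' := fun R₁' hR₁' x =>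
    Subgroup.mem_inf.2 ⟨hmem _,
      (mem_normalizer_preimage_iff hrange hR₁' _).1 (Subgroup.mem_inf.1 x.2).2⟩
  let θN : ∀ R₁', R₁' ≤ S' → (↥(normalizerIn S (preimageAlong θ R₁')) →* ↥(normalizerIn S' R₁')) :=
    fun R₁' hR₁' => (θ.comp (Subgroup.inclusion (normalizerIn_le S _))).codRestrict _
      (hθN R₁' hR₁')
  have hθsurj : ∀ R₁' (h' : R₁' ≤ S'), Function.Surjective (θN R₁' h') := by
    intro R₁' h' y
    obtain ⟨s, hs⟩ : (y : Ω') ∈ θ.range := hrange.symm ▸ (Subgroup.mem_inf.1 y.2).1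
    refine ⟨⟨s, Subgroup.mem_inf.2 ⟨s.2, (mem_normalizer_preimage_iff hrange h' s).2 ?_⟩⟩,
      Subtype.ext hs⟩
    rw [hs]; exact (Subgroup.mem_inf.1 y.2).2
  have hθker : ∀ R₁' (h' : R₁' ≤ S'), Nat.card (θN R₁' h').ker = Nat.card Q := by
    intro R₁' h'
    refine Nat.card_congr ⟨fun x => ⟨(x.1 : Ω),
      (hker _).1 (congrArg Subtype.val (MonoidHom.mem_ker.1 x.2))⟩,
      fun q => ⟨⟨q, Subgroup.mem_inf.2 ⟨hQS q.2, Subgroup.le_normalizer (mem_preimageAlong.2
        ⟨hQS q.2, by rw [(hker ⟨q, hQS q.2⟩).2 q.2]; exact one_mem _⟩)⟩⟩,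
        MonoidHom.mem_ker.2 (Subtype.ext ((hker ⟨q, hQS q.2⟩).2 q.2))⟩,
      fun x => rfl, fun q => rfl⟩
  have hcard : ∀ R₁' (h' : R₁' ≤ S'), Nat.card ↥(normalizerIn S (preimageAlong θ R₁')) =
      Nat.card ↥(normalizerIn S' R₁') * Nat.card Q := by
    intro R₁' h'
    rw [← hθker R₁' h', Subgroup.card_eq_card_quotient_mul_card_subgroup (θN R₁' h').ker,
      Nat.card_congr (QuotientGroup.quotientKerEquivOfSurjective _ (hθsurj R₁' h')).toEquiv]
  have hRfn : F.IsFullyNormalized R := by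
    refine ⟨hRS, fun R₁ hR₁ => ?_⟩
    obtain ⟨R₁', hR₁', hR₁S, rfl⟩ := hconj R₁ hR₁
    rw [hcard R₁' hR₁S, hcard R' hR']
    exact Nat.mul_le_mul_right _ (hRn.2 R₁' hR₁')
  obtain ⟨NR, hNR⟩ := exists_isNormalizerSystem F hRS
  obtain ⟨M, _, κ, hM⟩ := exists_model_normalizer hS hF hRfn hRcen hNR
  obtain ⟨hMfin, hr, ⟨U, hU⟩, -⟩ := id hM
  haveI := hMfin
  have hQN : Q ≤ normalizerIn S R := hQR.trans (le_normalizerIn hRS)
  haveI := finite_of_le (normalizerIn_le S R)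
  -- the image of the kernel is normal
  haveI hKn : (im κ Q).Normal := by
    refine im_normal_of_isNormal hM ⟨hQN, fun P φ hφ => ?_⟩
    obtain ⟨ω, hω, hωP, hωR⟩ := normSystem_ext hNR hφ
    have hle : P ⊔ Q ≤ P ⊔ R := sup_le_sup_left hQR P
    have hPN : P ⊔ R ≤ normalizerIn S R := sup_le (le_left hφ) (le_normalizerIn hRS)
    have hval : ∀ x, ω x ∈ normalizerIn S R := fun x => by
      have hx : ω x ∈ φ.range ⊔ R := range_extension hωP hωR ▸ ⟨x, rfl⟩
      refine sup_le ?_ (le_normalizerIn hRS) hx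
      rintro _ ⟨y, rfl⟩
      exact apply_mem hφ y
    refine ⟨restrictHom ω hle, restrict_mem (mem_normSystem hNR hω le_sup_right hPN hval hωR) hle,
      fun x => hωP x, ?_⟩
    refine le_antisymm ?_ fun y hy => ?_
    · rintro _ ⟨x, hx, rfl⟩
      exact CfsgLib.FusionFactor.apply_mem_of_stronglyClosed hQsc hω (x := Subgroup.inclusion hle x) hx
    · obtain ⟨x, hx, hxy⟩ := CfsgLib.FusionFactor.exists_eq_of_stronglyClosed F hQsc hω
        (hQR.trans le_sup_right) hy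
      exact ⟨⟨x, Subgroup.mem_sup_right hx⟩, hx, hxy⟩
  let π := QuotientGroup.mk' (im κ Q)
  let f := θN R' hR'
  have hfv : ∀ x, (f x : Ω') = θ ⟨x, normalizerIn_le S _ x.2⟩ := fun x => rfl
  have hfker : ∀ x, f x = 1 ↔ (x : Ω) ∈ Q := fun x => by
    rw [← hker ⟨x, normalizerIn_le S _ x.2⟩, ← hfv, OneMemClass.coe_eq_one]
  have hπker : ∀ x, π (κ x) = 1 ↔ (x : Ω) ∈ Q := fun x => by
    rw [show π (κ x) = 1 ↔ κ x ∈ im κ Q from QuotientGroup.eq_one_iff _, apply_mem_im_iff hr.1]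
  let ι₁ : ↥(normalizerIn S' R') →* M ⧸ im κ Q :=
    f.liftOfSurjective (hθsurj R' hR') ⟨π.comp κ, fun x hx =>
      MonoidHom.mem_ker.2 ((hπker x).2 ((hfker x).1 (MonoidHom.mem_ker.1 hx)))⟩
  have hι₁ : ∀ x, ι₁ (f x) = π (κ x) := fun x =>
    f.liftOfRightInverse_comp_apply (Function.surjInv (hθsurj R' hR'))
      (Function.rightInverse_surjInv (hθsurj R' hR')) ⟨π.comp κ, _⟩ x
  have hι₁inj : Function.Injective ι₁ := by
    rw [injective_iff_map_eq_one]
    intro y hy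
    obtain ⟨x, rfl⟩ := hθsurj R' hR' y
    rw [hι₁, hπker] at hy
    exact (hfker x).2 hy
  have hreal : N'.IsRealizedBy ι₁ := by
    refine ⟨hι₁inj, fun P' hP' φ' hφ' => ⟨fun hφN => ?_, fun hg => ?_⟩⟩
    · obtain ⟨ω', hω', hω'P, hω'R⟩ := normSystem_ext hN' hφN
      obtain ⟨hD', ω, hω, hD, hωS, hDD', hωv⟩ := (hHom _ ω').1 hω'
      have hRD : R ≤ preimageAlong θ (P' ⊔ R') := fun x hx => by
        obtain ⟨hxS, hxR⟩ := mem_preimageAlong.1 hx
        exact mem_preimageAlong.2 ⟨hxS, Subgroup.mem_sup_right hxR⟩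
      have hPD : ∀ x : ↥(normalizerIn S R), (f x : Ω') ∈ P' ⊔ R' →
          (x : Ω) ∈ preimageAlong θ (P' ⊔ R') :=
        fun x hx => mem_preimageAlong.2 ⟨normalizerIn_le S _ x.2, hx⟩
      have hωR : imgHom ω R = R := by
        haveI := finite_of_le hRS
        refine Subgroup.eq_of_le_of_card_ge ?_ (card_imgHom (F.injective_of_mem hω) hRD).ge
        rintro _ ⟨x, hx, rfl⟩
        refine mem_preimageAlong.2 ⟨hωS x, ?_⟩
        rw [← hωv x]
        exact hω'R.le ⟨_, (mem_preimageAlong.1 hx).2, rfl⟩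
      have hDN : preimageAlong θ (P' ⊔ R') ≤ normalizerIn S R := fun x hx => by
        obtain ⟨hxS, hxR⟩ := mem_preimageAlong.1 hx
        refine Subgroup.mem_inf.2 ⟨hxS, (mem_normalizer_preimage_iff hrange hR' ⟨x, hxS⟩).2 ?_⟩
        exact sup_le (hP'.trans inf_le_right) Subgroup.le_normalizer hxR
      have hval : ∀ x, ω x ∈ normalizerIn S R := fun x => by
        refine Subgroup.mem_inf.2 ⟨hωS x, ?_⟩
        rw [← hωR]
        exact map_mem_normalizer hRD (Subgroup.mem_inf.1 (hDN x.2)).2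
      obtain ⟨g, hg⟩ := (hr.2 _ hDN ω hval).1 (mem_normSystem hNR hω hRD hDN hval hωR)
      refine ⟨π g, fun y => ?_⟩
      obtain ⟨x, hx⟩ := hθsurj R' hR' ⟨y, hP' y.2⟩
      have hxy : (f x : Ω') = y := congrArg Subtype.val hx
      have hxD := hPD x (by rw [hxy]; exact Subgroup.mem_sup_left y.2)
      have h1 := congrArg π (hg ⟨x, hxD⟩)
      rw [map_mul, map_mul, map_inv, ← hι₁, ← hι₁,
        show f ⟨x, hDN hxD⟩ = ⟨y, hP' y.2⟩ from hx] at h1
      refine Eq.trans ?_ h1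
      refine congrArg ι₁ (Subtype.ext ?_)
      refine ((hω'P y).symm.trans ?_).trans (hfv _).symm
      refine Eq.trans ?_ (hωv ⟨x, hxD⟩)
      exact congrArg ω' (Subtype.ext hxy.symm)
    · obtain ⟨g', hg'⟩ := hg
      obtain ⟨g, rfl⟩ := QuotientGroup.mk'_surjective (im κ Q) g'
      have hgR : g ∈ Subgroup.normalizer (im κ R : Set M) := by
        haveI := im_normal_of_isNormal hM (normSystem_isNormal hRS hNR)
        rw [Subgroup.normalizer_eq_top]
        exact Subgroup.mem_top g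
      have hD' : P' ⊔ R' ≤ S' := sup_le (hP'.trans (normalizerIn_le S' R')) hR'
      set D := preimageAlong θ (P' ⊔ R') with hDdef
      have hDN : D ≤ normalizerIn S R := fun x hx => by
        obtain ⟨hxS, hxR⟩ := mem_preimageAlong.1 hx
        refine Subgroup.mem_inf.2 ⟨hxS, (mem_normalizer_preimage_iff hrange hR' ⟨x, hxS⟩).2 ?_⟩
        exact sup_le (hP'.trans inf_le_right) Subgroup.le_normalizer hxR
      have hDgen : ∀ A : Subgroup M, im κ Q ≤ A →
          (∀ x : ↥(normalizerIn S R), (f x : Ω') ∈ P' → g * κ x * g⁻¹ ∈ A) →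
          (∀ x : ↥(normalizerIn S R), (x : Ω) ∈ R → g * κ x * g⁻¹ ∈ A) →
          ∀ x : ↥(normalizerIn S R), (f x : Ω') ∈ P' ⊔ R' → g * κ x * g⁻¹ ∈ A := by
        intro A hQA h1 h2 x hx
        have hle : P' ⊔ R' ≤ ((A.comap ((MulAut.conj g).toMonoidHom.comp κ)).map f).map
            (normalizerIn S' R').subtype := by
          refine sup_le (fun y hy => ?_) fun y hy => ?_
          · obtain ⟨z, hz⟩ := hθsurj R' hR' ⟨y, hP' hy⟩
            refine ⟨_, ⟨z, h1 z ?_, rfl⟩, congrArg Subtype.val hz⟩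
            rw [show (f z : Ω') = y from congrArg Subtype.val hz]; exact hy
          · obtain ⟨z, hz⟩ := hθsurj R' hR' ⟨y, le_normalizerIn hR' hy⟩
            refine ⟨_, ⟨z, h2 z (mem_preimageAlong.2 ⟨normalizerIn_le S _ z.2, ?_⟩), rfl⟩,
              congrArg Subtype.val hz⟩
            rw [show θ ⟨z, normalizerIn_le S _ z.2⟩ = y from congrArg Subtype.val hz]; exact hy
        obtain ⟨_, ⟨z, hz, rfl⟩, hzx⟩ := hle hx
        have hzx' : z⁻¹ * x ∈ (f : _ →* _).ker := MonoidHom.mem_ker.2 (by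
          rw [map_mul, map_inv, Subtype.ext hzx, inv_mul_cancel])
        have h3 : g * κ (z⁻¹ * x) * g⁻¹ ∈ A :=
          hQA (hKn.conj_mem _ ((apply_mem_im_iff hr.1).2 ((hfker _).1 hzx')) g)
        have := mul_mem hz h3
        simpa [mul_assoc] using this
      have hbase : ∀ x : ↥(normalizerIn S R), (f x : Ω') ∈ P' → ∀ h : (f x : Ω') ∈ P',
          (g * κ x * g⁻¹ : M ⧸ im κ Q) = ι₁ ⟨φ' ⟨f x, h⟩, hφ' _⟩ := by
        intro x _ h
        rw [hg' ⟨f x, h⟩]
        rw [show (⟨((⟨(f x : Ω'), h⟩ : P') : Ω'), hP' (Subtype.mem _)⟩ : normalizerIn S' R') = f x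
          from rfl, hι₁]
        rfl
      have hrg : ∀ x : ↥(normalizerIn S R), (f x : Ω') ∈ P' ⊔ R' → g * κ x * g⁻¹ ∈ κ.range := by
        refine hDgen _ (im_le_range κ Q) (fun x hx => ?_) fun x hx => ?_
        · obtain ⟨z, hz⟩ := hθsurj R' hR' ⟨φ' ⟨f x, hx⟩, hφ' _⟩
          have h1 := hbase x hx hx
          rw [← hz, hι₁] at h1
          have h2 : (κ z)⁻¹ * (g * κ x * g⁻¹) ∈ im κ Q := QuotientGroup.eq.1 h1.symm
          have := mul_mem (⟨z, rfl⟩ : κ z ∈ κ.range) (im_le_range κ Q h2)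
          simpa [mul_assoc] using this
        · exact im_le_range κ R ((Subgroup.mem_normalizer_iff.1 hgR (κ x)).1
            ((apply_mem_im_iff hr.1).2 hx))
      obtain ⟨D₂, hD₂, hD₂eq⟩ := exists_im_eq (ι := κ) (V := (im κ D).map (MulAut.conj g).toMonoidHom)
        (by
          rintro _ ⟨_, ⟨x, hx, rfl⟩, rfl⟩
          exact hrg x (mem_preimageAlong.1 hx).2)
      obtain ⟨e, he, hev⟩ := exists_iso_of_conj hr hDN hD₂ hD₂eq.symm
      let ω : ↥D →* Ω := D₂.subtype.comp e.toMonoidHom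
      have hωv : ∀ x : D, κ ⟨ω x, hD₂ (e x).2⟩ = g * κ ⟨x, hDN x.2⟩ * g⁻¹ := hev
      have hωN : ω ∈ NR.Hom D := he
      have hωF : ω ∈ F.Hom D := normSystem_le hNR _ hωN
      obtain ⟨ω', hind⟩ := CfsgLib.FusionFactor.exists_induced (P' := P' ⊔ R') (preimageAlong_le θ _)
        (apply_mem hωF) (fun x => (mem_preimageAlong.1 x.2).2)
        (CfsgLib.FusionFactor.exists_preimage hrange hD')
        (fun x hx => (hker _).2
          (CfsgLib.FusionFactor.apply_mem_of_stronglyClosed hQsc hωF ((hker _).1 hx)))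
      have hω'E : ω' ∈ E.Hom (P' ⊔ R') := (hHom _ ω').2 ⟨hD', ω, hωF, hind⟩
      obtain ⟨h₁, h₂, h₃, hω'v⟩ := hind
      have hω'g : ∀ (x : ↥(normalizerIn S R)) (hx : (f x : Ω') ∈ P' ⊔ R'),
          ∃ z, (f z : Ω') = ω' ⟨f x, hx⟩ ∧ κ z = g * κ x * g⁻¹ := by
        intro x hx
        have hxD : (x : Ω) ∈ D := mem_preimageAlong.2 ⟨normalizerIn_le S _ x.2, hx⟩
        exact ⟨⟨ω ⟨x, hxD⟩, hD₂ (e _).2⟩, (hω'v ⟨x, hxD⟩).symm, hωv ⟨x, hxD⟩⟩
      have hω'P : ∀ y : P', ω' (Subgroup.inclusion le_sup_left y) = φ' y := by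
        intro y
        obtain ⟨x, hx⟩ := hθsurj R' hR' ⟨y, hP' y.2⟩
        have hxy : (f x : Ω') = y := congrArg Subtype.val hx
        obtain ⟨z, hz1, hz2⟩ := hω'g x (by rw [hxy]; exact Subgroup.mem_sup_left y.2)
        have h1 := hbase x (hxy ▸ y.2) (hxy ▸ y.2)
        rw [show (g * κ x * g⁻¹ : M ⧸ im κ Q) = π (g * κ x * g⁻¹) from rfl, ← hz2, ← hι₁] at h1
        have h2 := congrArg Subtype.val (hι₁inj h1)
        rw [hz1] at h2
        calc ω' (Subgroup.inclusion le_sup_left y)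
            = ω' ⟨f x, by rw [hxy]; exact Subgroup.mem_sup_left y.2⟩ :=
              congrArg ω' (Subtype.ext hxy.symm)
          _ = φ' ⟨f x, hxy ▸ y.2⟩ := h2
          _ = φ' y := congrArg φ' (Subtype.ext hxy)
      have hω'R : imgHom ω' R' = R' := by
        haveI := finite_of_le hR'
        refine Subgroup.eq_of_le_of_card_ge ?_
          (card_imgHom (E.injective_of_mem hω'E) le_sup_right).ge
        rintro _ ⟨w, hw, rfl⟩
        obtain ⟨x, hx⟩ := hθsurj R' hR' ⟨w, le_normalizerIn hR' hw⟩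
        have hxy : (f x : Ω') = w := congrArg Subtype.val hx
        obtain ⟨z, hz1, hz2⟩ := hω'g x (by rw [hxy]; exact w.2)
        have hxR : (x : Ω) ∈ R :=
          mem_preimageAlong.2 ⟨normalizerIn_le S _ x.2, by rw [← hfv, hxy]; exact hw⟩
        have hzR : (z : Ω) ∈ R := by
          rw [← apply_mem_im_iff (ι := κ) hr.1, hz2]
          exact (Subgroup.mem_normalizer_iff.1 hgR _).1 ((apply_mem_im_iff hr.1).2 hxR)
        rw [show w = ⟨(f x : Ω'), by rw [hxy]; exact w.2⟩ from Subtype.ext hxy.symm, ← hz1, hfv]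
        exact (mem_preimageAlong.1 hzR).2
      have hφE : φ' ∈ E.Hom P' :=
        mem_of_agree hω'E (le_sup_left : P' ≤ P' ⊔ R') fun y => (hω'P y).symm
      rw [hN']
      exact ⟨hφE, hP', hφ', ω', hω'E, hω'P, hω'R⟩
  have hπrange : ι₁.range = (U : Subgroup M).map π := by
    rw [hU]
    ext y
    constructor
    · rintro ⟨w, rfl⟩
      obtain ⟨x, rfl⟩ := hθsurj R' hR' w
      exact ⟨κ x, ⟨x, rfl⟩, (hι₁ x).symm⟩
    · rintro ⟨_, ⟨x, rfl⟩, rfl⟩
      exact ⟨f x, hι₁ x⟩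
  haveI hRM : (im ι₁ R').Normal := by
    haveI hRn' := im_normal_of_isNormal hM (normSystem_isNormal hRS hNR)
    have heq : im ι₁ R' = (im κ R).map π := by
      ext y
      constructor
      · rintro ⟨w, hw, rfl⟩
        obtain ⟨x, rfl⟩ := hθsurj R' hR' w
        exact ⟨κ x, ⟨x, mem_preimageAlong.2 ⟨normalizerIn_le S _ x.2, hw⟩, rfl⟩, (hι₁ x).symm⟩
      · rintro ⟨_, ⟨x, hx, rfl⟩, rfl⟩
        exact ⟨f x, (mem_preimageAlong.1 hx).2, hι₁ x⟩
    rw [heq]
    exact hRn'.map π (QuotientGroup.mk'_surjective _)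
  haveI hPn : (pPrimeCore p (M ⧸ im κ Q)).Normal := Subgroup.sSup_normal _ fun N hN => hN.1
  have hmodel := isModel_mod_pPrimeCore hreal (U.mapSurjective (QuotientGroup.mk'_surjective _))
    ((Sylow.coe_mapSurjective _ _).trans hπrange.symm) (le_normalizerIn hR')
    ((inf_le_inf_right _ (normalizerIn_le S' R')).trans (centralizerIn_le_of_centric hRc))
  obtain ⟨Φ, -⟩ := exists_equiv_models hmodel hL (normSystem_isNormal hR' hN')
    (normSystem_isCentric hRc hN')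
  refine h R hRfn hRcen NR hNR M κ hM ?_
  exact ConjFunctor.involves_trans (ConjFunctor.involves_quotient (im κ Q))
    (ConjFunctor.involves_trans (ConjFunctor.involves_quotient _)
      (ConjFunctor.involves_trans (ConjFunctor.involves_equiv Φ) hinv))

end CfsgLib.FusionQd
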