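import Cfsg.Agent.WeakClosed.SectionFree
import Cfsg.Agent.FusionPStable.RadicalOvergroup

/-!
# Models at non-radical centric subgroups

The model at a fully normalised centric subgroup which is not radical is involved in the model at
some larger fully normalised centric subgroup.
-/

set_option autoImplicit false

universe u

namespace CfsgLib.FusionQd

open Cfsg Cfsg.FusionSystem CfsgLib.Fusion CfsgLib.WeakClosed

variable {Ω : Type u} [Group Ω] {S : Subgroup Ω} {F : FusionSystem S} {p : ℕ}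

theorem normalizerIn_eq_of_isNormal {T : Subgroup Ω} (hT : F.IsNormal T) :
    normalizerIn S T = S :=
  inf_eq_left.2 (normal_le_normalizer hT)

theorem mem_normalizerHom_of_isNormal {T P : Subgroup Ω} (hT : F.IsNormal T) {φ : P →* Ω}
    (hφ : φ ∈ F.Hom P) : φ ∈ F.normalizerHom T P := by
  have hN := normalizerIn_eq_of_isNormal hT
  obtain ⟨ψ, hψ, h1, h2⟩ := exists_normal_extension hT hφ
  exact ⟨hφ, (le_left hφ).trans hN.ge, fun x => hN.ge (apply_mem hφ x), ψ, hψ, h1, h2⟩

/-- A model of a system is one of the normalizer system of a subgroup normal in it. -/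
theorem isModel_normalizer_of_isNormal {T : Subgroup Ω} (hT : F.IsNormal T)
    {N : FusionSystem (normalizerIn S T)} (hN : F.IsNormalizerSystem T N) {L : Type*} [Group L]
    {ι : ↥S →* L} (hL : F.IsModel p L ι) :
    N.IsModel p L (ι.comp (Subgroup.inclusion (normalizerIn_le S T))) := by
  obtain ⟨hfin, hr, ⟨Y, hY⟩, hc⟩ := hL
  have hS := normalizerIn_eq_of_isNormal hT
  refine ⟨hfin, ⟨hr.1.comp (Subgroup.inclusion_injective _), fun P hP φ hφ => ?_⟩, ⟨Y, ?_⟩, hc⟩
  · refine Iff.trans ?_ (hr.2 P (hP.trans hS.le) φ fun x => hS.le (hφ x))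
    rw [hN P]
    exact ⟨fun h => h.1, mem_normalizerHom_of_isNormal hT⟩
  · rw [hY]
    ext y
    exact ⟨fun ⟨x, hx⟩ => ⟨⟨x, hS.ge x.2⟩, hx⟩, fun ⟨x, hx⟩ => ⟨_, hx⟩⟩

/-- A centric subgroup of `F` above `U` is centric in the normalizer system of `U`. -/
theorem isCentric_normSystem {U T : Subgroup Ω} {E : FusionSystem (normalizerIn S U)}
    (hE : F.IsNormalizerSystem U E) (hT : F.IsCentric T) (hTN : T ≤ normalizerIn S U) :
    E.IsCentric T := by
  refine ⟨hTN, fun Q ⟨φ, hφ, hr⟩ => ?_⟩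
  exact (inf_le_inf_right _ (normalizerIn_le S U)).trans (hT.2 Q ⟨φ, normSystem_le hE T hφ, hr⟩)

/-- A normal subgroup is fully normalised. -/
theorem isFullyNormalized_of_isNormal [Finite S] {T : Subgroup Ω} (hT : F.IsNormal T) :
    F.IsFullyNormalized T := by
  refine ⟨hT.1, fun Q _ => ?_⟩
  rw [normalizerIn_eq_of_isNormal hT]
  exact Nat.card_le_card_of_injective _ (Subgroup.inclusion_injective (normalizerIn_le S Q))

theorem exists_larger_model [Finite S] [Fact p.Prime] (hS : IsPGroup p S) (hF : F.IsSaturated p)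
    {Q : Subgroup Ω} (hQ : F.IsFullyNormalized Q) (hQc : F.IsCentric Q) (hrad : ¬ F.IsRadical p Q)
    {N : FusionSystem (normalizerIn S Q)} (hN : F.IsNormalizerSystem Q N) {L : Type u} [Group L]
    {ι : ↥(normalizerIn S Q) →* L} (hL : N.IsModel p L ι) :
    ∃ Y : Subgroup Ω, Nat.card Q < Nat.card Y ∧ F.IsFullyNormalized Y ∧ F.IsCentric Y ∧
      ∃ NY : FusionSystem (normalizerIn S Y), F.IsNormalizerSystem Y NY ∧
        ∃ (M : Type u) (_ : Group M) (κ : ↥(normalizerIn S Y) →* M),
          NY.IsModel p M κ ∧ Involves L M := by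
  have := finite_of_le (normalizerIn_le S Q)
  obtain ⟨M, hQM, hMS, hExt⟩ := FusionPStable.exists_bigger hS hF hQ le_rfl
    (fun α hα => ⟨α, hα, fun x hx => rfl⟩) hrad
  set T := normalizerIn M Q with hTdef
  have hTN : T ≤ normalizerIn S Q := inf_le_inf_right _ hMS
  have hQT : Q ≤ T := le_normalizerIn hQM.le
  have hTS : T ≤ S := hTN.trans (normalizerIn_le S Q)
  have hlt : Q < T := by
    refine lt_of_le_of_ne hQT fun he => ?_
    have := finite_of_le hMS
    have : Group.IsNilpotent ↥M := (hS.to_le hMS).isNilpotent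
    have h1 : Q.subgroupOf M < ⊤ := by
      refine lt_top_iff_ne_top.2 fun h => hQM.ne (le_antisymm hQM.le ?_)
      exact Subgroup.subgroupOf_eq_top.1 h
    have h2 := Group.normalizerCondition_of_isNilpotent (Q.subgroupOf M) h1
    rw [← Subgroup.subgroupOf_normalizer_eq hQM.le] at h2
    have h3 : (Subgroup.normalizer (Q : Set Ω)).subgroupOf M = T.subgroupOf M := by
      rw [hTdef, normalizerIn, Subgroup.inf_subgroupOf_left]
    exact absurd (h3.trans (by rw [← he])) h2.ne'
  have hNn := normSystem_isNormal hQ.1 hN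
  have hNc := normSystem_isCentric hQc hN
  obtain ⟨hfin, hr, ⟨Y, hY⟩, -⟩ := id hL
  have hcen := centralizer_im_eq hL hNn hNc
  haveI hQn := im_normal_of_isNormal hL hNn
  -- `T` is normal in the system
  have hTn : N.IsNormal T := by
    refine isNormal_of_realized hr hTN ?_
    haveI : Finite L := hfin
    rw [← Subgroup.normalizer_eq_top_iff, eq_top_iff]
    intro g _
    obtain ⟨e, he, hev⟩ := exists_iso_of_conj (g := g) hr (le_normalizerIn hQ.1)
      (le_normalizerIn hQ.1) (Subgroup.mem_normalizer_iff_map_conj_eq.1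
        (by rw [Subgroup.normalizer_eq_top]; exact Subgroup.mem_top g))
    have heF : IsIso F e := normSystem_le hN _ he
    obtain ⟨β, hβ, hβv⟩ := hExt e heF.mem_autGroup
    have hβI := (mem_autGroup_iff hMS).1 hβ
    let ω : ↥T →* Ω := restrictHom (M.subtype.comp β.toMonoidHom) (normalizerIn_le M Q)
    have hωv : ∀ x : T, ω x = (β ⟨x, normalizerIn_le M Q x.2⟩ : Ω) := fun x => rfl
    have hωQ : imgHom ω Q = Q := by
      refine le_antisymm ?_ fun y hy => ?_
      · rintro _ ⟨x, hx, rfl⟩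
        rw [hωv, hβv ⟨x, hx⟩]
        exact (e ⟨x, hx⟩).2
      · obtain ⟨x, hx⟩ := e.surjective ⟨y, hy⟩
        refine ⟨⟨x, hQT x.2⟩, x.2, ?_⟩
        rw [hωv, hβv x]
        exact congrArg Subtype.val hx
    have hωT : ∀ x : T, ω x ∈ T := by
      intro x
      refine Subgroup.mem_inf.2 ⟨(β _).2, ?_⟩
      rw [← hωQ]
      exact map_mem_normalizer hQT (Subgroup.mem_inf.1 x.2).2
    have hωN : ω ∈ N.Hom T :=
      mem_normSystem hN (restrict_mem hβI _) hQT hTN (fun x => hTN (hωT x)) hωQ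
    obtain ⟨g', hg'⟩ := (hr.2 T hTN ω fun x => hTN (hωT x)).1 hωN
    have hg'T : g' ∈ Subgroup.normalizer (im ι T : Set L) := by
      refine Subgroup.mem_normalizer_fintype fun v hv => ?_
      obtain ⟨x, hx, rfl⟩ := hv
      have h1 := hg' ⟨x, hx⟩
      show g' * ι x * g'⁻¹ ∈ im ι T
      rw [← h1, apply_mem_im_iff hr.1]
      exact hωT ⟨x, hx⟩
    have hc : g⁻¹ * g' ∈ im ι (centralizerIn (normalizerIn S Q) Q) := by
      rw [← hcen, Subgroup.mem_centralizer_iff]
      rintro _ ⟨x, hx, rfl⟩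
      have e1 := hev ⟨x, hx⟩
      have e2 := hg' ⟨x, hQT hx⟩
      have e3 : ω ⟨x, hQT hx⟩ = (e ⟨x, hx⟩ : Ω) := (hωv _).trans (hβv ⟨x, hx⟩ _)
      rw [show (⟨ω ⟨x, hQT hx⟩, hTN (hωT _)⟩ : normalizerIn S Q) =
        ⟨e ⟨x, hx⟩, le_normalizerIn hQ.1 (e _).2⟩ from Subtype.ext e3, e1] at e2
      have e4 := congrArg (fun z => g⁻¹ * z * g') e2
      simpa [mul_assoc] using e4
    have hle : im ι (centralizerIn (normalizerIn S Q) Q) ≤ im ι T :=
      im_mono ι (((inf_le_inf_right _ (normalizerIn_le S Q)).trans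
        (centralizerIn_le_of_centric hQc)).trans hQT)
    have h := Subgroup.mul_mem _ hg'T (Subgroup.inv_mem _ (Subgroup.le_normalizer (hle hc)))
    simpa [mul_assoc] using h
  obtain ⟨NT, hNT⟩ := exists_isNormalizerSystem N hTN
  have hTc : F.IsCentric T := isCentric_of_le hQc hQT hTS
  obtain ⟨Y₂, hY₂T, hY₂, hY₂c, NY, hNY, M', _, κ, hM', hinv⟩ :=
    exists_model_involves hS hF hQ hN (isFullyNormalized_of_isNormal hTn)
      (isCentric_normSystem hN hTc hTN) hNT (isModel_normalizer_of_isNormal hTn hNT hL)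
  refine ⟨Y₂, ?_, hY₂, hY₂c, NY, hNY, M', inferInstance, κ, hM', hinv⟩
  rw [sup_eq_left.2 hQT] at hY₂T
  rw [← card_eq_of_isConj hY₂T]
  have := finite_of_le hTS
  exact Set.Finite.card_lt_card (Set.toFinite _) hlt

end CfsgLib.FusionQd
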