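import Cfsg.Agent.FusionQd.Climb
import Cfsg.Agent.FusionQd.Factor
import Cfsg.Agent.FusionQd.Overgroup
import Cfsg.Agent.FusionConstrained.Inherit
import Cfsg.Agent.FusionThompson.Generation
import Cfsg.Agent.Solvable.Nilpotent

/-!
# Section-free systems are constrained

If a functor `W` is normal in every constrained group which is free of the section `H`, then every
`H`-free saturated system is constrained and `W(S)` is normal in it.
-/

set_option autoImplicit false

universe u v

namespace CfsgLib.FusionQd

open Cfsg Cfsg.FusionSystem CfsgLib.Fusion CfsgLib.WeakClosed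
open CfsgLib.FusionFactor (mem_preimageAlong preimageAlong_le)

/-- `W` is normal in the constrained groups without section `H`. -/
def NormalInFreeGroups (p : ℕ) (H : Type v) [Group H] (W : ∀ (Q : Type u) [Group Q], Subgroup Q) :
    Prop :=
  ∀ (L : Type u) [Group L] [Finite L] (T : Sylow p L),
    Subgroup.centralizer ((pCore p L : Subgroup L) : Set L) ≤ pCore p L → ¬ Involves H L →
      (wOf W (T : Subgroup L)).Normal

variable {p : ℕ} [Fact p.Prime] {H : Type v} [Group H]
variable {W : ∀ (Q : Type u) [Group Q], Subgroup Q}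

/-- In the fusion system of a free model `W(S)` is normal. -/
theorem isNormal_wOf_of_model {Ω : Type u} [Group Ω] {S : Subgroup Ω} [Finite S]
    {F : FusionSystem S} (hS : IsPGroup p S) (hW : IsoInvariant p W)
    (hG : NormalInFreeGroups p H W) {L : Type u} [Group L] {ι : ↥S →* L} (hL : F.IsModel p L ι)
    (hfree : ¬ Involves H L) : F.IsNormal (wOf W S) := by
  obtain ⟨hfin, hr, ⟨T, hT⟩, hc⟩ := id hL
  haveI := hfin
  refine isNormal_of_realized hr (wOf_le S) ?_
  have hn := hG L T hc hfree
  suffices im ι (wOf W S) = wOf W (T : Subgroup L) from this ▸ hn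
  let e : ↥S ≃* ↥(T : Subgroup L) :=
    (MonoidHom.ofInjective hr.1).trans (MulEquiv.subgroupCongr hT.symm)
  refine Eq.trans ?_ (congrArg (Subgroup.map (T : Subgroup L).subtype) (hW ↥S ↥(T : Subgroup L) hS e))
  rw [Subgroup.map_map, im, wOf, Subgroup.subgroupOf,
    Subgroup.comap_map_eq_self_of_injective S.subtype_injective]
  rfl

/-- The same for a constrained free system. -/
theorem isNormal_wOf_of_constrained {Ω : Type u} [Group Ω] {S : Subgroup Ω} [Finite S]
    {F : FusionSystem S} (hS : IsPGroup p S) (hF : F.IsConstrained p)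
    (hfree : F.IsSectionFree p H) (hW : IsoInvariant p W) (hG : NormalInFreeGroups p H W) :
    F.IsNormal (wOf W S) := by
  obtain ⟨hFs, Q, hQn, hQc⟩ := hF
  have hQfn := isFullyNormalized_of_isNormal hQn
  obtain ⟨N, hN⟩ := exists_isNormalizerSystem F hQn.1
  obtain ⟨L, _, ι, hL⟩ := exists_model_normalizer hS hFs hQfn hQc hN
  have := finite_of_le (normalizerIn_le S Q)
  have hn := isNormal_wOf_of_model (hS.to_le (normalizerIn_le S Q)) hW hG hL
    (hfree Q hQfn hQc N hN L ι hL)
  have hWeq : wOf W (normalizerIn S Q) = wOf W S := by rw [normalizerIn_eq_of_isNormal hQn]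
  rw [hWeq] at hn
  refine ⟨wOf_le S, fun P φ hφ => ?_⟩
  obtain ⟨ψ, hψ, h1, h2⟩ :=
    hn.2 P φ ((hN P).symm ▸ mem_normalizerHom_of_isNormal hQn hφ)
  exact ⟨ψ, normSystem_le hN _ hψ, h1, h2⟩

/-- A section-free system is constrained. -/
theorem isConstrained_of_free (hW : IsoInvariant p W)
    (hne : ∀ (Q : Type u) [Group Q] [Finite Q], IsPGroup p Q → Nontrivial Q → W Q ≠ ⊥)
    (hG : NormalInFreeGroups p H W) :
    ∀ (n : ℕ) {Ω : Type u} [Group Ω] {S : Subgroup Ω} [Finite S], Nat.card S = n →
      IsPGroup p S → ∀ F : FusionSystem S, F.IsSaturated p → F.IsSectionFree p H →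
        F.IsConstrained p := by
  intro n
  induction n using Nat.strong_induction_on with
  | h n ih =>
    intro Ω _ S _ hn hS F hF hfree
    induction hm : (FusionThompson.mapSet F).ncard using Nat.strong_induction_on generalizing S with
    | h m ihm =>
      subst hm
      by_cases hS1 : S = ⊥
      · refine ⟨hF, ⊥, CfsgLib.FusionFactor.isNormal_bot F, FusionConstrained.isCentric_of_stronglyClosed
          (stronglyClosed_of_normal (CfsgLib.FusionFactor.isNormal_bot F)) ?_⟩
        rw [← hS1]
        exact centralizerIn_le S S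
      have hRn := CfsgLib.FusionFactor.isNormal_core F
      have hRS : F.core ≤ S := hRn.1
      by_cases hR : F.core = ⊥
      · -- no normal subgroup: `W(S)` gives one
        exfalso
        refine wOf_ne_bot hne hS hS1 (le_bot_iff.1 (hR ▸ le_sSup ?_))
        refine isNormal_wOf hS hF hW hne fun Q hQ hQne P φ hφ => ?_
        obtain ⟨N, hN⟩ := exists_isNormalizerSystem F hQ.1
        have := finite_of_le (normalizerIn_le S Q)
        have hNs := isSaturated_normalizerSystem hS hF hQ hN
        have hNf := isSectionFree_normalizer hS hF hQ hN hfree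
        have hNp := hS.to_le (normalizerIn_le S Q)
        have hle : Nat.card (normalizerIn S Q) ≤ n :=
          hn ▸ Nat.card_le_card_of_injective _ (Subgroup.inclusion_injective (normalizerIn_le S Q))
        have hNc : N.IsConstrained p := by
          rcases hle.lt_or_eq with hlt | heq
          · exact ih _ hlt rfl hNp N hNs hNf
          · refine ihm _ ?_ heq hNp N hNs hNf rfl
            refine Set.ncard_lt_ncard ?_ (FusionThompson.mapSet_finite F)
            refine HasSubset.Subset.ssubset_of_ne (fun x hx => normSystem_le hN _ hx) fun heq' => ?_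
            refine hQne (le_bot_iff.1 (hR ▸ le_sSup ⟨hQ.1, fun P' φ' hφ' => ?_⟩))
            have hmem : φ' ∈ N.Hom P' := by
              have h0 : (⟨P', φ'⟩ : Σ P : Subgroup Ω, P →* Ω) ∈ FusionThompson.mapSet F := hφ'
              rw [← heq'] at h0
              exact h0
            rw [hN P'] at hmem
            exact hmem.2.2.2
        have hWn := isNormal_wOf_of_constrained hNp hNc hNf hW hG
        obtain ⟨ψ, hψ, h1, h2⟩ := hWn.2 P φ ((hN P).symm ▸ hφ)
        have hNN : normalizerIn S Q ≤ normalizerIn S (wOf W (normalizerIn S Q)) :=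
          le_inf (normalizerIn_le S Q)
            (Subgroup.le_normalizer.trans (normalizer_le_normalizer_wOf hW hNp))
        exact ⟨hφ.1, hφ.2.1.trans hNN, fun x => hNN (hφ.2.2.1 x), ψ, normSystem_le hN _ hψ, h1, h2⟩
      by_cases hC : centralizerIn S F.core ≤ F.core
      · exact ⟨hF, F.core, hRn, FusionConstrained.isCentric_of_stronglyClosed
          (stronglyClosed_of_normal hRn) hC⟩
      exfalso
      set R := F.core with hRdef
      have hRsc := stronglyClosed_of_normal hRn
      haveI hn' : (R.subgroupOf S).Normal := ⟨fun x hx g => Subgroup.mem_subgroupOf.2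
        (CfsgLib.FusionFactor.conj_mem_of_stronglyClosed hRsc g.2 (Subgroup.mem_subgroupOf.1 hx))⟩
      obtain ⟨E, hE⟩ := CfsgLib.FusionFactor.exists_factorSystem_quotient F R hRsc
      set θ := QuotientGroup.mk' (R.subgroupOf S)
      have hEs := CfsgLib.FusionFactor.isSaturated_factor hS hF hRsc hE
      have hQp : IsPGroup p (⊤ : Subgroup (S ⧸ R.subgroupOf S)) := (hS.to_quotient _).to_subgroup _
      have hlt : Nat.card (⊤ : Subgroup (S ⧸ R.subgroupOf S)) < n := by
        rw [Subgroup.card_top, ← hn,
          Subgroup.card_eq_card_quotient_mul_card_subgroup (R.subgroupOf S)]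
        refine lt_mul_of_one_lt_right Nat.card_pos ((Subgroup.one_lt_card_iff_ne_bot _).2 ?_)
        intro h
        exact hR ((Subgroup.map_subgroupOf_eq_of_le hRS).symm.trans (by rw [h, Subgroup.map_bot]))
      have hEc := ih _ hlt rfl hQp E hEs (isSectionFree_factor hS hF hRn hE hfree)
      have hCn := CfsgLib.FusionFactor.isNormal_core E
      have hCC := FusionConstrained.core_centralizer_le hEc
      set C' := E.core
      set C := centralizerIn S R
      set K := R ⊔ C with hK
      have hCN : C ≤ Subgroup.normalizer (R : Set Ω) :=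
        inf_le_left.trans (normal_le_normalizer hRn)
      have hKmem : ∀ z ∈ K, ∃ c ∈ C, ∃ r ∈ R, c * r = z := by
        intro z hz
        rw [hK, sup_comm, ← SetLike.mem_coe,
          Subgroup.coe_mul_of_left_le_normalizer_right C R hCN] at hz
        obtain ⟨c, hc, r, hr, rfl⟩ := Set.mem_mul.1 hz
        exact ⟨c, hc, r, hr, rfl⟩
      have hKsc : F.StronglyClosed K := by
        refine ⟨sup_le hRS inf_le_left, fun P hP φ hφ x => ?_⟩
        obtain ⟨ψ, hψ, h1, h2⟩ := exists_normal_extension hRn hφ
        obtain ⟨r, hr, c, hc, hrc⟩ := hKmem _ (hP x.2)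
        have hcPR : r ∈ P ⊔ R := by
          have := mul_mem (Subgroup.mem_sup_left (T := R) x.2)
            (inv_mem (Subgroup.mem_sup_right (S := P) hc))
          rwa [← hrc, mul_inv_cancel_right] at this
        have hψx : φ x = ψ ⟨r, hcPR⟩ * ψ ⟨c, Subgroup.mem_sup_right hc⟩ := by
          rw [← h1 x, ← map_mul]
          exact congrArg ψ (Subtype.ext hrc.symm)
        rw [hψx]
        refine mul_mem (Subgroup.mem_sup_right ?_)
          (Subgroup.mem_sup_left (h2.le (apply_mem_imgHom ψ hc)))
        refine mem_centralizerIn.2 ⟨apply_mem hψ _, fun y hy => ?_⟩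
        obtain ⟨z, hz, rfl⟩ := h2.ge hy
        rw [← map_mul, ← map_mul]
        exact congrArg ψ (Subtype.ext ((mem_centralizerIn.1 hr).2 z hz))
      -- the image of `K` meets the core of the factor
      set Kb := (K.subgroupOf S).map θ with hKb
      haveI : (K.subgroupOf S).Normal := ⟨fun x hx g => Subgroup.mem_subgroupOf.2
        (CfsgLib.FusionFactor.conj_mem_of_stronglyClosed hKsc g.2 (Subgroup.mem_subgroupOf.1 hx))⟩
      haveI : Kb.Normal := Subgroup.Normal.map inferInstance θ (QuotientGroup.mk'_surjective _)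
      have hKbne : Kb ≠ ⊥ := by
        intro h
        refine hC fun c hc => ?_
        have h1 : θ ⟨c, hc.1⟩ ∈ Kb :=
          ⟨⟨c, hc.1⟩, (Subgroup.mem_sup_right hc : c ∈ K), rfl⟩
        rw [h, Subgroup.mem_bot] at h1
        exact (hE.2.1 _).1 h1
      haveI : Group.IsNilpotent (S ⧸ R.subgroupOf S) := (hS.to_quotient _).isNilpotent
      have hmeet := CfsgLib.Solvable.inf_center_ne_bot hKbne
      -- the enlarged normal subgroup
      set X := preimageAlong θ C' ⊓ K with hX
      have hRX : R ≤ X := le_inf (FusionSolvable.le_preimage hE C') le_sup_left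
      have hXn : F.IsNormal X := by
        obtain ⟨a, L, hL0, hLa, hLm, hL⟩ := (isNormal_iff_series hS hF).1 hRn
        obtain ⟨b, M, hM0, hMb, hMm, hM⟩ := (isNormal_iff_series hQp hEs).1 hCn
        let Lf : ℕ → Subgroup Ω := fun i =>
          if h : i ≤ a then L ⟨i, Nat.lt_succ_of_le h⟩ else
            preimageAlong θ (M ⟨min (i - a) b, Nat.lt_succ_of_le (min_le_right _ _)⟩) ⊓ K
        have hLf1 : ∀ i (h : i ≤ a), Lf i = L ⟨i, Nat.lt_succ_of_le h⟩ := fun i h => dif_pos h
        have hLf2 : ∀ i, a ≤ i → Lf i =
            preimageAlong θ (M ⟨min (i - a) b, Nat.lt_succ_of_le (min_le_right _ _)⟩) ⊓ K := by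
          intro i hi
          rcases hi.lt_or_eq with h | h
          · exact dif_neg (not_le.2 h)
          · subst h
            rw [hLf1 a le_rfl]
            have e1 : (⟨a, Nat.lt_succ_of_le le_rfl⟩ : Fin (a + 1)) = Fin.last a := rfl
            have e2 : (⟨min (a - a) b, Nat.lt_succ_of_le (min_le_right _ _)⟩ : Fin (b + 1)) = 0 :=
              Fin.ext (by simp)
            rw [e1, hLa, e2, hM0, FusionSolvable.preimage_bot hE, inf_eq_left.2 (le_sup_left : R ≤ K)]
        have hMsc : ∀ j : Fin (b + 1), E.StronglyClosed (M j) := by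
          intro j
          induction j using Fin.cases with
          | zero =>
            rw [hM0]
            exact stronglyClosed_of_normal (CfsgLib.FusionFactor.isNormal_bot E)
          | succ j => exact (hM j).1
        have hLsc : ∀ i, F.StronglyClosed (Lf i) := by
          intro i
          rcases le_or_gt i a with hi | hi
          · rw [hLf1 i hi]
            cases i with
            | zero =>
              rw [show (⟨0, _⟩ : Fin (a + 1)) = 0 from rfl, hL0]
              exact stronglyClosed_of_normal (CfsgLib.FusionFactor.isNormal_bot F)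
            | succ i => exact (hL ⟨i, hi⟩).1
          · rw [hLf2 i hi.le]
            exact stronglyClosed_inf (FusionSolvable.stronglyClosed_preimage hS hF hRsc hE (hMsc _))
              hKsc
        refine isNormal_of_series hS hF (a + b) Lf ?_ ?_ ?_ hLsc ?_
        · rw [hLf1 0 (Nat.zero_le _)]
          exact hL0
        · rw [hLf2 _ (Nat.le_add_right a b), hX]
          congr 1
          rw [← hMb]
          exact congrArg (fun j => preimageAlong θ (M j)) (Fin.ext (by simp [Fin.val_last]))
        · intro i
          rcases Nat.lt_or_ge i a with hi | hi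
          · rw [hLf1 i hi.le, hLf1 (i + 1) hi]
            exact hLm (Fin.mk_le_mk.2 (Nat.le_succ i))
          · rw [hLf2 i hi, hLf2 (i + 1) (hi.trans (Nat.le_succ i))]
            refine inf_le_inf_right _ fun x hx => ?_
            obtain ⟨hxS, hxM⟩ := mem_preimageAlong.1 hx
            exact mem_preimageAlong.2 ⟨hxS, hMm (Fin.mk_le_mk.2 (by omega)) hxM⟩
        · intro i hi
          rw [Subgroup.commutator_le]
          intro x hx y hy
          rcases Nat.lt_or_ge i a with hia | hia
          · rw [hLf1 i hia.le]
            rw [hLf1 (i + 1) hia] at hy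
            have hyR : y ∈ R := by rw [← hLa]; exact hLm (Fin.le_last _) hy
            obtain ⟨c, hc, r, hr, hcr⟩ := hKmem x hx.2
            have h1 : r * y * r⁻¹ * y⁻¹ ∈ L ⟨i, by omega⟩ :=
              (hL ⟨i, hia⟩).2 (Subgroup.commutator_mem_commutator hr hy)
            have hcz : ∀ z ∈ R, c * z * c⁻¹ = z := fun z hz => by
              rw [← (mem_centralizerIn.1 hc).2 z hz, mul_inv_cancel_right]
            have h2 : x * y * x⁻¹ * y⁻¹ = r * y * r⁻¹ * y⁻¹ := by
              rw [← hcr, ← hcz (r * y * r⁻¹) (R.mul_mem (R.mul_mem hr hyR) (R.inv_mem hr))]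
              group
            show x * y * x⁻¹ * y⁻¹ ∈ _
            rw [h2]
            exact h1
          · rw [hLf2 i hia]
            rw [hLf2 (i + 1) (hia.trans (Nat.le_succ i))] at hy
            obtain ⟨hxS, hxC⟩ := mem_preimageAlong.1 hx.1
            obtain ⟨hyS, hyM⟩ := mem_preimageAlong.1 hy.1
            refine ⟨mem_preimageAlong.2 ⟨?_, ?_⟩, ?_⟩
            · exact mul_mem (mul_mem (mul_mem hxS hyS) (inv_mem hxS)) (inv_mem hyS)
            · have hlt' : i - a < b := by omega
              have e1 : (⟨min (i + 1 - a) b, Nat.lt_succ_of_le (min_le_right _ _)⟩ : Fin (b + 1)) =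
                  (⟨i - a, hlt'⟩ : Fin b).succ := Fin.ext (by simp; omega)
              have e2 : (⟨min (i - a) b, Nat.lt_succ_of_le (min_le_right _ _)⟩ : Fin (b + 1)) =
                  Fin.castSucc (⟨i - a, hlt'⟩ : Fin b) := Fin.ext (by simp; omega)
              rw [e1] at hyM
              rw [e2]
              have h1 := (hM ⟨i - a, hlt'⟩).2 (Subgroup.commutator_mem_commutator hxC hyM)
              rw [commutatorElement_def, ← map_inv, ← map_inv, ← map_mul, ← map_mul, ← map_mul] at h1
              exact h1
            · exact K.mul_mem (K.mul_mem (K.mul_mem hx.2 hy.2) (K.inv_mem hx.2)) (K.inv_mem hy.2)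
      have hXR : X ≤ R := le_sSup hXn
      refine hmeet (le_bot_iff.1 fun z hz => ?_)
      obtain ⟨⟨s, hs, rfl⟩, hzc⟩ := hz
      have hsC : θ s ∈ C' := hCC (mem_centralizerIn.2 ⟨Subgroup.mem_top _, fun y _ =>
        Subgroup.mem_center_iff.1 hzc y⟩)
      exact Subgroup.mem_bot.2
        ((hE.2.1 s).2 (hXR ⟨mem_preimageAlong.2 ⟨s.2, hsC⟩, hs⟩))

/-- `W(S)` is normal in a section-free system. -/
theorem isNormal_wOf_of_free (hW : IsoInvariant p W)
    (hne : ∀ (Q : Type u) [Group Q] [Finite Q], IsPGroup p Q → Nontrivial Q → W Q ≠ ⊥)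
    (hG : NormalInFreeGroups p H W) {Ω : Type u} [Group Ω] {S : Subgroup Ω} [Finite S]
    (hS : IsPGroup p S) {F : FusionSystem S} (hF : F.IsSaturated p)
    (hfree : F.IsSectionFree p H) : F.IsNormal (wOf W S) :=
  isNormal_wOf_of_constrained hS (isConstrained_of_free hW hne hG _ rfl hS F hF hfree) hfree hW hG

end CfsgLib.FusionQd
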