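import Cfsg.Agent.FusionQd.TwoFunctor

/-!
# `Qd(p)`-free systems: realizable, solvable, with a normal characteristic subgroup
-/

set_option autoImplicit false

universe u

namespace CfsgLib.FusionQd

open Cfsg Cfsg.FusionSystem

theorem characteristic_wOf {p : ℕ} {W : ∀ (Q : Type u) [Group Q], Subgroup Q}
    (hW : IsoInvariant p W) {Ω : Type u} [Group Ω] {S : Subgroup Ω} [Finite S]
    (hS : IsPGroup p S) : ((wOf W S).subgroupOf S).Characteristic := by
  rw [wOf, Subgroup.subgroupOf, Subgroup.comap_map_eq_self_of_injective S.subtype_injective]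
  exact Subgroup.characteristic_iff_map_eq.2 fun φ => hW ↥S ↥S hS φ

theorem qdFree_realizable_solvable (h : TwoCharExists.{u}) {p : ℕ} [Fact p.Prime] {Ω : Type u}
    [Group Ω] {S : Subgroup Ω} [Finite S] (hS : IsPGroup p S) {F : FusionSystem S}
    (hF : F.IsSaturated p) (hfree : F.IsSectionFree p ↥(Cfsg.qd p)) :
    F.IsRealizable p ∧ F.IsSolvableSystem := by
  obtain ⟨W, hW, hne, hG⟩ := exists_qd_functor h p
  exact isRealizable_and_solvable hW hne hG hS hF hfree

theorem qdFree_normal_characteristic (h : TwoCharExists.{u}) {p : ℕ} [Fact p.Prime] {Ω : Type u}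
    [Group Ω] {S : Subgroup Ω} [Finite S] (hS : IsPGroup p S) (hS1 : S ≠ ⊥) {F : FusionSystem S}
    (hF : F.IsSaturated p) (hfree : F.IsSectionFree p ↥(Cfsg.qd p)) :
    ∃ W : Subgroup Ω, W ≤ S ∧ W ≠ ⊥ ∧ (W.subgroupOf S).Characteristic ∧ F.IsNormal W := by
  obtain ⟨W, hW, hne, hG⟩ := exists_qd_functor h p
  exact ⟨wOf W S, wOf_le S, wOf_ne_bot hne hS hS1, characteristic_wOf hW hS,
    isNormal_wOf_of_free hW hne hG hS hF hfree⟩

theorem sigmaFour_uniform (h : TwoCharExists.{u}) {Ω : Type u} [Group Ω] {S : Subgroup Ω}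
    [Finite S] (hS : IsPGroup 2 S) (hS1 : S ≠ ⊥) :
    ∃ W : Subgroup Ω, W ≤ S ∧ W ≠ ⊥ ∧ (W.subgroupOf S).Characteristic ∧
      ∀ F : FusionSystem S, F.IsSaturated 2 → F.IsSectionFree 2 (Equiv.Perm (Fin 4)) →
        F.IsNormal W := by
  haveI : Fact (Nat.Prime 2) := ⟨Nat.prime_two⟩
  exact ⟨wOf (twoFunctor h) S, wOf_le S, wOf_ne_bot (two_ne_bot h) hS hS1,
    characteristic_wOf (isoInvariant_two h) hS, fun F hF hfree =>
      isNormal_wOf_of_free (isoInvariant_two h) (two_ne_bot h) (normalInFreeGroups_two h) hS hF hfree⟩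

end CfsgLib.FusionQd
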