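import Cfsg.Agent.FusionQd.Constrained
import Cfsg.Agent.FusionPStable.ZJControl
import Cfsg.Agent.LocalEven.QdSection
import Cfsg.Agent.FusionSolvable.Chain

/-!
# Functors normal in constrained `Qd(p)`-free groups; solvability of section-free systems
-/

set_option autoImplicit false

universe u v

namespace CfsgLib.FusionQd

open Cfsg Cfsg.FusionSystem CfsgLib.Fusion
open CfsgLib.FusionPStable (zjFunctor)

variable {p : ℕ} [Fact p.Prime]

theorem wOf_zj {L : Type u} [Group L] (P : Subgroup L) : wOf zjFunctor P = centerThompsonAOf P :=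
  CfsgLib.FusionPStable.inducedFunctor_zj P

theorem isoInvariant_zj : IsoInvariant.{u} p zjFunctor := by
  intro Q R _ _ _ _ φ
  rw [zjFunctor, zjFunctor, CfsgLib.PLocal.map_centerThompsonAOf φ.injective,
    Subgroup.map_top_of_surjective φ.toMonoidHom φ.surjective]

theorem zj_ne_bot (Q : Type u) [Group Q] [Finite Q] (hQ : IsPGroup p Q) (_hnt : Nontrivial Q) :
    zjFunctor Q ≠ ⊥ :=
  CfsgLib.PLocal.centerThompsonAOf_ne_bot (hQ.to_subgroup ⊤) top_ne_bot

theorem normalInFreeGroups_zj (hp : p ≠ 2) :
    NormalInFreeGroups.{u, 0} p ↥(Cfsg.qd p) zjFunctor := by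
  intro L _ _ T hc hfree
  have hst := CfsgLib.LocalEven.isNormalizerPStable_of_qdFree hp hfree
  rw [wOf_zj]
  haveI := CfsgLib.PLocal.centerThompsonAOf_characteristic hp hc (fun V hVn hV =>
    @CfsgLib.FusionPStable.isPStableOn_of_normalizerPStable _ _ p hst V hVn hV) T
  infer_instance

variable {H : Type v} [Group H] {W : ∀ (Q : Type u) [Group Q], Subgroup Q}

/-- A section-free system has a chain of strongly closed subgroups with abelian factors. -/
theorem chain_of_free (hW : IsoInvariant p W)
    (hne : ∀ (Q : Type u) [Group Q] [Finite Q], IsPGroup p Q → Nontrivial Q → W Q ≠ ⊥)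
    (hG : NormalInFreeGroups p H W) :
    ∀ (n : ℕ) {Ω : Type u} [Group Ω] {S : Subgroup Ω} [Finite S], Nat.card S = n →
      IsPGroup p S → ∀ F : FusionSystem S, F.IsSaturated p → F.IsSectionFree p H →
        FusionSolvable.Chain F ⊥ := by
  intro n
  induction n using Nat.strong_induction_on with
  | h n ih =>
    intro Ω _ S _ hn hS F hF hfree
    by_cases hS1 : S = ⊥
    · rw [← hS1]; exact FusionSolvable.Chain.top
    have hWn := isNormal_wOf_of_free hW hne hG hS hF hfree
    have hWne := wOf_ne_bot hne hS hS1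
    set V := wOf W S
    have hVS : V ≤ S := hWn.1
    haveI := finite_of_le hVS
    -- the centre of `V`
    haveI : Nontrivial V := (Subgroup.nontrivial_iff_ne_bot V).2 hWne
    haveI hnt : Nontrivial (Subgroup.center V) := (hS.to_le hVS).center_nontrivial
    set A := (Subgroup.center V).map V.subtype with hA
    have hAn : F.IsNormal A := isNormal_of_characteristic hWn (Subgroup.map_subtype_le _) (by
      rw [hA, Subgroup.subgroupOf, Subgroup.comap_map_eq_self_of_injective V.subtype_injective]
      infer_instance)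
    have hAsc := stronglyClosed_of_normal hAn
    have hAne : A ≠ ⊥ := fun h => (Subgroup.nontrivial_iff_ne_bot _).1 hnt
      ((Subgroup.map_eq_bot_iff_of_injective _ V.subtype_injective).1 h)
    haveI : (A.subgroupOf S).Normal := ⟨fun x hx g => Subgroup.mem_subgroupOf.2
      (CfsgLib.FusionFactor.conj_mem_of_stronglyClosed hAsc g.2 (Subgroup.mem_subgroupOf.1 hx))⟩
    obtain ⟨E, hE⟩ := CfsgLib.FusionFactor.exists_factorSystem_quotient F A hAsc
    have hEs := CfsgLib.FusionFactor.isSaturated_factor hS hF hAsc hE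
    have hQp : IsPGroup p (⊤ : Subgroup (S ⧸ A.subgroupOf S)) := (hS.to_quotient _).to_subgroup _
    have hlt : Nat.card (⊤ : Subgroup (S ⧸ A.subgroupOf S)) < n := by
      rw [Subgroup.card_top, ← hn,
        Subgroup.card_eq_card_quotient_mul_card_subgroup (A.subgroupOf S)]
      refine lt_mul_of_one_lt_right Nat.card_pos ((Subgroup.one_lt_card_iff_ne_bot _).2 ?_)
      intro h
      exact hAne ((Subgroup.map_subgroupOf_eq_of_le hAn.1).symm.trans (by rw [h, Subgroup.map_bot]))
    have hch := (ih _ hlt rfl hQp E hEs (isSectionFree_factor hS hF hAn hE hfree)).preimage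
      hS hF hAsc hE
    rw [FusionSolvable.preimage_bot hE] at hch
    refine hch.step (stronglyClosed_of_normal (CfsgLib.FusionFactor.isNormal_bot F)) bot_le ?_
    rw [le_bot_iff, Subgroup.commutator_eq_bot_iff_le_centralizer]
    rintro _ ⟨a, -, rfl⟩
    rw [Subgroup.mem_centralizer_iff]
    rintro _ ⟨b, hb, rfl⟩
    exact congrArg Subtype.val (Subgroup.mem_center_iff.1 hb a).symm

/-- A section-free system is realisable and solvable. -/
theorem isRealizable_and_solvable (hW : IsoInvariant p W)
    (hne : ∀ (Q : Type u) [Group Q] [Finite Q], IsPGroup p Q → Nontrivial Q → W Q ≠ ⊥)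
    (hG : NormalInFreeGroups p H W) {Ω : Type u} [Group Ω] {S : Subgroup Ω} [Finite S]
    (hS : IsPGroup p S) {F : FusionSystem S} (hF : F.IsSaturated p)
    (hfree : F.IsSectionFree p H) : F.IsRealizable p ∧ F.IsSolvableSystem := by
  refine ⟨?_, FusionSolvable.isSolvableSystem_of_chain hS hF
    (chain_of_free hW hne hG _ rfl hS F hF hfree)⟩
  obtain ⟨-, Q, hQn, hQc⟩ := isConstrained_of_free hW hne hG _ rfl hS F hF hfree
  obtain ⟨L, hgr, ι, hfin, hr, hT, -⟩ := exists_model hS hF hQn hQc
  exact ⟨L, hgr, hfin, ι, hr, hT⟩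

end CfsgLib.FusionQd
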