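import Cfsg.Agent.FusionQd.QdFunctor
import Cfsg.Agent.QdPerm.Basic

/-!
# An isomorphism invariant form of a characteristic subgroup normal in `S₄`-free groups

A choice of one characteristic subgroup for each nontrivial finite 2-group becomes a functor by
evaluating it at one representative of each isomorphism class.  Also `Qd(2) ≅ S₄`.
-/

set_option autoImplicit false

universe u

namespace CfsgLib.FusionQd

open Cfsg Cfsg.FusionSystem

/-- Every nontrivial finite 2-group has a characteristic subgroup `W ≠ 1` which is normal in every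
constrained `S₄`-free group with that Sylow subgroup. -/
def TwoCharExists : Prop :=
  ∀ (S : Type u) [Group S] [Finite S] [Nontrivial S], IsPGroup 2 S →
    ∃ W : Subgroup S, W ≠ ⊥ ∧ W.Characteristic ∧ ∀ (G : Type u) [Group G] [Finite G] (τ : S →* G),
      Function.Injective τ → (∃ P : Sylow 2 G, (P : Subgroup G) = τ.range) →
      (¬ ∃ (K R : Subgroup G) (_ : (R.subgroupOf K).Normal),
        Nonempty ((K ⧸ R.subgroupOf K) ≃* Equiv.Perm (Fin 4))) →
      Subgroup.centralizer (Cfsg.pCore 2 G : Set G) ≤ Cfsg.pCore 2 G → (W.map τ).Normal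

/-- Group structures on standard carriers. -/
abbrev Std : Type u := Σ n : ℕ, Group (ULift.{u} (Fin n))

/-- The carrier. -/
def Std.carrier (r : Std.{u}) : Type u := ULift.{u} (Fin r.1)

instance (r : Std.{u}) : Group (Std.carrier r) := r.2

instance (r : Std.{u}) : Finite (Std.carrier r) := inferInstanceAs (Finite (ULift.{u} (Fin r.1)))

instance : Nonempty Std.{u} := ⟨⟨1, (Equiv.ulift.trans finOneEquiv).group⟩⟩

/-- The standard groups isomorphic to `Q`. -/
def stdSet (Q : Type u) [Group Q] : Set Std.{u} := {r | Nonempty (Std.carrier r ≃* Q)}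

theorem stdSet_nonempty (Q : Type u) [Group Q] [Finite Q] : (stdSet Q).Nonempty := by
  obtain ⟨n, ⟨e⟩⟩ := Finite.exists_equiv_fin Q
  let e' : ULift.{u} (Fin n) ≃ Q := Equiv.ulift.trans e.symm
  exact ⟨⟨n, e'.group⟩, ⟨e'.mulEquiv⟩⟩

open scoped Classical in
/-- The chosen representative. -/
noncomputable def rep (Q : Type u) [Group Q] : Std.{u} := Classical.epsilon fun r => r ∈ stdSet Q

theorem nonempty_rep (Q : Type u) [Group Q] [Finite Q] : Nonempty (Std.carrier (rep Q) ≃* Q) :=
  Classical.epsilon_spec (stdSet_nonempty Q)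

theorem rep_congr {Q R : Type u} [Group Q] [Group R] (φ : Q ≃* R) : rep Q = rep R := by
  have h : stdSet Q = stdSet R := Set.ext fun r =>
    ⟨fun ⟨e⟩ => ⟨e.trans φ⟩, fun ⟨e⟩ => ⟨e.trans φ.symm⟩⟩
  rw [rep, rep, h]

variable (h : TwoCharExists.{u})

open scoped Classical in
/-- The choice at a standard group. -/
noncomputable def stdVal (r : Std.{u}) : Subgroup (Std.carrier r) :=
  if hr : IsPGroup 2 (Std.carrier r) ∧ Nontrivial (Std.carrier r) then
    haveI := hr.2
    (h (Std.carrier r) hr.1).choose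
  else ⊥

theorem characteristic_stdVal (r : Std.{u}) : (stdVal h r).Characteristic := by
  rw [stdVal]
  split_ifs with hr
  · haveI := hr.2
    exact (h (Std.carrier r) hr.1).choose_spec.2.1
  · infer_instance

open scoped Classical in
/-- The functor. -/
noncomputable def twoFunctor (Q : Type u) [Group Q] : Subgroup Q :=
  if hQ : Nonempty (Std.carrier (rep Q) ≃* Q) then (stdVal h (rep Q)).map hQ.some.toMonoidHom else ⊥

theorem twoFunctor_eq {Q : Type u} [Group Q] {r : Std.{u}} (hr : rep Q = r)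
    (e : Std.carrier r ≃* Q) : twoFunctor h Q = (stdVal h r).map e.toMonoidHom := by
  subst hr
  rw [twoFunctor, dif_pos ⟨e⟩]
  have hc := Subgroup.characteristic_iff_map_eq.1 (characteristic_stdVal h (rep Q))
    ((Nonempty.intro e).some.trans e.symm)
  conv_rhs => rw [← hc, Subgroup.map_map]
  congr 1
  ext x
  simp

theorem isoInvariant_two : IsoInvariant.{u} 2 (twoFunctor h) := by
  intro Q R _ _ _ _ φ
  obtain ⟨e⟩ := nonempty_rep Q
  rw [twoFunctor_eq h rfl e, twoFunctor_eq h (rep_congr φ).symm (e.trans φ), Subgroup.map_map]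
  rfl

theorem two_ne_bot (Q : Type u) [Group Q] [Finite Q] (hQ : IsPGroup 2 Q) (hnt : Nontrivial Q) :
    twoFunctor h Q ≠ ⊥ := by
  obtain ⟨e⟩ := nonempty_rep Q
  rw [twoFunctor_eq h rfl e]
  intro he
  have hr : IsPGroup 2 (Std.carrier (rep Q)) ∧ Nontrivial (Std.carrier (rep Q)) :=
    ⟨hQ.of_equiv e.symm, e.toEquiv.nontrivial⟩
  rw [Subgroup.map_eq_bot_iff_of_injective _ e.injective, stdVal, dif_pos hr] at he
  haveI := hr.2
  exact (h (Std.carrier (rep Q)) hr.1).choose_spec.1 he

theorem normalInFreeGroups_two :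
    NormalInFreeGroups.{u, 0} 2 (Equiv.Perm (Fin 4)) (twoFunctor h) := by
  intro L _ _ T hc hfree
  obtain ⟨e⟩ := nonempty_rep ↥(T : Subgroup L)
  rw [wOf, twoFunctor_eq h rfl e, Subgroup.map_map, stdVal]
  split_ifs with hr
  · haveI := hr.2
    refine (h _ hr.1).choose_spec.2.2 L _
      ((T : Subgroup L).subtype_injective.comp e.injective) ⟨T, ?_⟩ hfree hc
    rw [MonoidHom.range_comp, MonoidHom.range_eq_top.2 e.surjective, ← MonoidHom.range_eq_map,
      Subgroup.range_subtype]
  · rw [Subgroup.map_bot]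
    infer_instance

theorem involves_congr {H H' G : Type*} [Group H] [Group H'] [Group G] (e : H ≃* H')
    (hi : Involves H G) : Involves H' G := by
  obtain ⟨K, R, hn, ⟨f⟩⟩ := hi
  exact ⟨K, R, hn, ⟨f.trans e⟩⟩

theorem card_affine_two : Fintype.card {v : ZMod 2 × ZMod 2 × ZMod 2 × ZMod 2 × ZMod 2 × ZMod 2 //
    v.1 * v.2.2.2.1 - v.2.1 * v.2.2.1 = 1} = 24 := by decide

/-- `Qd(2)` is the symmetric group of degree 4. -/
theorem nonempty_qd_two : Nonempty (↥(Cfsg.qd 2) ≃* Equiv.Perm (Fin 4)) := by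
  haveI : Fact (Nat.Prime 2) := ⟨Nat.prime_two⟩
  let ε : QdPerm.Pt 2 ≃ Fin 4 := Fintype.equivFinOfCardEq (by simp [Fintype.card_prod, ZMod.card])
  let ψ : ↥(Cfsg.qd 2) →* Equiv.Perm (Fin 4) :=
    ε.permCongrHom.toMonoidHom.comp (QdPerm.actHom 2)
  have hψ : Function.Injective ψ := ε.permCongrHom.injective.comp QdPerm.actHom_injective
  let X := {v : ZMod 2 × ZMod 2 × ZMod 2 × ZMod 2 × ZMod 2 × ZMod 2 //
    v.1 * v.2.2.2.1 - v.2.1 * v.2.2.1 = 1}
  let f : X → ↥(Cfsg.qd 2) := fun v => ⟨QdPerm.mk v.1.1 v.1.2.1 v.1.2.2.1 v.1.2.2.2.1 v.1.2.2.2.2.1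
    v.1.2.2.2.2.2 v.2, (QdPerm.qd_eq (p := 2)).symm ▸ QdPerm.mk_mem ..⟩
  have hf : Function.Injective f := by
    rintro ⟨⟨a, b, c, d, x, y⟩, h₁⟩ ⟨⟨a', b', c', d', x', y'⟩, h₂⟩ e
    have e' := congrArg (fun M : ↥(Cfsg.qd 2) => M.1.1) e
    simp only [f, QdPerm.mk] at e'
    have h00 := congrFun (congrFun e' 0) 0
    have h01 := congrFun (congrFun e' 0) 1
    have h02 := congrFun (congrFun e' 0) 2
    have h10 := congrFun (congrFun e' 1) 0
    have h11 := congrFun (congrFun e' 1) 1
    have h12 := congrFun (congrFun e' 1) 2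
    simp at h00 h01 h02 h10 h11 h12
    subst h00 h01 h02 h10 h11 h12
    rfl
  haveI : Finite ↥(Cfsg.qd 2) := Finite.of_injective ψ hψ
  refine ⟨MulEquiv.ofBijective ψ (hψ.bijective_of_nat_card_le ?_)⟩
  refine le_trans ?_ (Nat.card_le_card_of_injective f hf)
  have hX : Fintype.card X = 24 := card_affine_two
  rw [Nat.card_perm, Nat.card_fin, Nat.card_eq_fintype_card, hX]
  rfl

theorem involves_qd_two_iff {G : Type*} [Group G] :
    Involves ↥(Cfsg.qd 2) G ↔ Involves (Equiv.Perm (Fin 4)) G :=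
  ⟨involves_congr nonempty_qd_two.some, involves_congr nonempty_qd_two.some.symm⟩

/-- The functor for `Qd(p)`-free systems. -/
theorem exists_qd_functor (h : TwoCharExists.{u}) (p : ℕ) [Fact p.Prime] :
    ∃ W : ∀ (Q : Type u) [Group Q], Subgroup Q, IsoInvariant p W ∧
      (∀ (Q : Type u) [Group Q] [Finite Q], IsPGroup p Q → Nontrivial Q → W Q ≠ ⊥) ∧
      NormalInFreeGroups.{u, 0} p ↥(Cfsg.qd p) W := by
  by_cases hp : p = 2
  · subst hp
    exact ⟨twoFunctor h, isoInvariant_two h, two_ne_bot h, fun L _ _ T hc hfree =>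
      normalInFreeGroups_two h L T hc fun hi => hfree (involves_qd_two_iff.2 hi)⟩
  · exact ⟨CfsgLib.FusionPStable.zjFunctor, isoInvariant_zj, zj_ne_bot, normalInFreeGroups_zj hp⟩

end CfsgLib.FusionQd
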